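import Groth.Agent.HilbLoc.Regular
import Groth.Agent.FreeRetract.Basic
import Groth.Agent.InvBasic.OfBasis
import Groth.Agent.ConormalSection.TestHom

/-!
# The conormal module of a regular immersion is finite locally free
-/

set_option autoImplicit false
set_option linter.unusedSectionVars false
set_option backward.isDefEq.respectTransparency false
universe u

open CategoryTheory CategoryTheory.Limits AlgebraicGeometry TopologicalSpace Opposite
open Groth.Agent.ConormalSection

namespace Groth.Agent.HilbLoc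

theorem isFinLocFree_of_affine_basis {Z : Scheme.{u}} (M : Z.Modules)
    (h : ∀ p : Z, ∃ (U : Z.Opens) (n : ℕ) (e : Fin n → Γ(M, U)), p ∈ U ∧
      ∀ (W : Z.affineOpens) (hW : W.1 ≤ U), Function.Bijective fun c : Fin n → Γ(Z, W.1) =>
        ∑ i, c i • M.presheaf.map (homOfLE hW).op (e i)) : FlatMod.IsFinLocFree M := by
  intro p
  obtain ⟨U, n, e, hp, he⟩ := h p
  let t : Fin n → Γ(M.restrict U.ι, ⊤) := fun i => M.presheaf.map (homOfLE (InvBasic.ι_image_le U ⊤)).op (e i)
  let φ := FreeRetract.mkHom t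
  have hφ : ∀ W : (U : Scheme.{u}).affineOpens, Function.Bijective (φ.app W.1) := fun W => by
    rw [LocFreeAnn.free_app_bijective_iff]
    have h1 := he ⟨U.ι ''ᵁ W.1, W.2.image_of_isOpenImmersion U.ι⟩ (InvBasic.ι_image_le U W.1)
    refine (congrArg Function.Bijective (funext fun c => ?_)).mp h1
    refine Finset.sum_congr rfl fun i _ => ?_
    rw [FreeRetract.mkHom_gen]
    refine Eq.trans ?_ (InvBasic.restrict_smul_eq M U W.1 (c i) _).symm
    congr 1
    exact (QCohLib.map_map M (U.ι.image_mono le_top) (InvBasic.ι_image_le U ⊤) (e i)).symm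
  haveI : Mono φ := mono_of_affine_injective φ fun W => (hφ W).1
  haveI : Epi φ := QCohLib.epi_of_affine_surjective φ fun W => (hφ W).2
  haveI : IsIso φ := isIso_of_mono_of_epi φ
  exact ⟨U, n, hp, ⟨(asIso φ).symm⟩⟩

variable {X : Scheme.{u}} (I₀ : X.IdealSheafData)

theorem isFinLocFree_pullback_idealMod (hreg : Mor2.IsRegularClosedImmersion I₀.subschemeι) :
    FlatMod.IsFinLocFree ((Scheme.Modules.pullback I₀.subschemeι).obj (ClSub.idealMod I₀)) := by
  refine isFinLocFree_of_affine_basis _ fun p => ?_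
  obtain ⟨V, n, f, hp, hf, hreg⟩ := exists_chart I₀ hreg p
  let ι := I₀.subschemeι
  let M := ClSub.idealMod I₀
  haveI : M.IsQuasicoherent := isQuasicoherent_idealMod I₀
  choose m hm using fun i => exists_idealSect_eq I₀ V (f i) (hf ▸ Ideal.subset_span ⟨i, rfl⟩)
  have hdec : ∀ y : Γ(M, V.1), ∃ d : Fin n → Γ(X, V.1), ∑ i, d i * f i = OmegaSh.idealSect I₀ V.1 y := fun y => by
    have h := idealSect_mem I₀ V y
    rwa [hf, Ideal.mem_span_range_iff_exists_fun] at h
  choose d hd using hdec
  have hsum : ∀ (y : Γ(M, V.1)) (c : Fin n → Γ(X, V.1)), ∑ i, c i * f i = OmegaSh.idealSect I₀ V.1 y →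
      y = ∑ i, c i • m i := fun y c hc => idealSect_injective I₀ V.1 (by
    rw [← hc, map_sum]
    exact Finset.sum_congr rfl fun i _ => by rw [idealSect_smul, hm])
  refine ⟨ι ⁻¹ᵁ V.1, n, fun i => OmegaSh.pullSect ι M V.1 (m i), hp, fun W hW => ?_⟩
  let φ := ι.appLE V.1 W.1 hW
  have hφ : ∀ a ∈ I₀.ideal V, φ a = 0 := fun a ha => by
    have h1 : ι.app V.1 a = 0 := by
      rw [← RingHom.mem_ker, show RingHom.ker (ι.app V.1).hom = I₀.ideal V from I₀.ker_subschemeι_app V]
      exact ha
    change I₀.subscheme.presheaf.map _ (ι.app V.1 a) = 0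
    rw [h1, map_zero]
  have hwd : ∀ (y : Γ(M, V.1)) (c : Fin n → Γ(X, V.1)), ∑ i, c i * f i = OmegaSh.idealSect I₀ V.1 y →
      ∀ i, φ (d y i) = φ (c i) := fun y c hc i => by
    rw [← sub_eq_zero, ← map_sub]
    refine Submodule.span_induction (p := fun u _ => φ (u i) = 0) ?_ (map_zero φ.hom)
      (fun u v _ _ h1 h2 => by rw [Pi.add_apply, map_add, h1, h2, add_zero])
      (fun r u _ h1 => by rw [Pi.smul_apply, smul_eq_mul, map_mul, h1, mul_zero])
      (hreg (fun j => d y j - c j) (by simp only [sub_mul, Finset.sum_sub_distrib, hd, hc, sub_self]))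
    rintro _ ⟨a, b, rfl⟩
    refine hφ _ ?_
    rw [Pi.sub_apply]
    refine sub_mem ?_ ?_ <;>
    · simp only [Pi.single_apply]
      split_ifs
      · exact hf ▸ Ideal.subset_span ⟨_, rfl⟩
      · exact zero_mem _
  let T := Fin n → Γ(I₀.subscheme, W.1)
  let l : Γ(M, V.1) →+ T := AddMonoidHom.mk' (fun y i => φ (d y i)) fun y y' => funext fun i => by
    rw [Pi.add_apply, ← map_add]
    exact hwd _ (fun j => d y j + d y' j) (by
      simp only [add_mul, Finset.sum_add_distrib, hd, map_add]) i
  obtain ⟨N, ψ, r, hr, hrs, hra, hψ⟩ := exists_testHom ι M V.2 W.2 hW (ModuleCat.of Γ(I₀.subscheme, W.1) T) l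
    (fun b y => funext fun i => by
      rw [Pi.smul_apply, smul_eq_mul]
      refine (hwd _ (fun j => b * d y j) ?_ i).trans (map_mul φ.hom _ _)
      simp only [mul_assoc, ← Finset.mul_sum, hd]
      exact (idealSect_smul I₀ V.1 b y).symm)
  classical
  have hl : ∀ i, l (m i) = Pi.single i 1 := fun i => funext fun j => by
    refine (hwd (m i) (Pi.single i 1) ?_ j).trans ?_
    · rw [hm, Finset.sum_eq_single i (fun c _ hc => by rw [Pi.single_eq_of_ne hc, zero_mul]) (by simp),
        Pi.single_eq_same, one_mul]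
    · simp only [Pi.single_apply]
      split_ifs
      · exact map_one φ.hom
      · exact map_zero φ.hom
  refine ⟨fun c c' hcc => ?_, fun y => ?_⟩
  · have key : ∀ c : Fin n → Γ(I₀.subscheme, W.1),
        ψ.app W.1 (∑ i, c i • pullRes ι M hW (m i)) = r c := fun c => by
      rw [map_sum]
      simp only [Scheme.Modules.Hom.app_smul, hψ, hl, ← hrs]
      let rh : T →+ Γ(N, W.1) := AddMonoidHom.mk' r hra
      refine (map_sum rh (fun i => c i • (Pi.single i 1 : T)) Finset.univ).symm.trans (congrArg r ?_)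
      refine funext fun j => ?_
      simp [Finset.sum_apply, Pi.single_apply]
    exact hr ((key c).symm.trans ((congrArg (ψ.app W.1) hcc).trans (key c')))
  · have hy : y ∈ Submodule.span Γ(I₀.subscheme, W.1) (Set.range (pullRes ι M hW)) := by
      rw [span_pullRes ι M V.2 W.2 hW]
      trivial
    have hle : Submodule.span Γ(I₀.subscheme, W.1) (Set.range (pullRes ι M hW)) ≤
        Submodule.span Γ(I₀.subscheme, W.1) (Set.range fun i => pullRes ι M hW (m i)) := by
      refine Submodule.span_le.2 ?_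
      rintro _ ⟨z, rfl⟩
      rw [hsum z (d z) (hd z)]
      let P : Γ(M, V.1) →+ Γ((Scheme.Modules.pullback ι).obj M, W.1) :=
        AddMonoidHom.mk' (pullRes ι M hW) (pullRes_add ι M hW)
      change P _ ∈ _
      rw [map_sum]
      refine Submodule.sum_mem _ fun i _ => ?_
      change pullRes ι M hW (d z i • m i) ∈ _
      rw [pullRes_smul]
      exact Submodule.smul_mem _ _ (Submodule.subset_span ⟨i, rfl⟩)
    obtain ⟨c, hc⟩ := (Submodule.mem_span_range_iff_exists_fun _).1 (hle hy)
    exact ⟨c, hc⟩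

theorem isFinLocFree_conormal (hreg : Mor2.IsRegularClosedImmersion I₀.subschemeι) :
    FlatMod.IsFinLocFree (Omega.conormal I₀.subschemeι) := by
  simp only [Omega.conormal]
  rw [Scheme.IdealSheafData.ker_subschemeι]
  exact isFinLocFree_pullback_idealMod I₀ hreg

end Groth.Agent.HilbLoc
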