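import Groth.Agent.HilbLoc.Ring
import Groth.Agent.DefGlue.Conditions
import Groth.Agent.IdealComap.Basic
import Groth.Prelude.Def_ArtFun6

/-!
# The local Hilbert functor on affine opens
-/

set_option autoImplicit false
set_option linter.unusedSectionVars false
universe u

open CategoryTheory CategoryTheory.Limits AlgebraicGeometry IsLocalRing ArtFun TopologicalSpace
open Groth.Agent.DefGlue

namespace Groth.Agent.HilbLoc

variable {k : Type u} [Field k] {X : Scheme.{u}} (x : X ⟶ Spec (CommRingCat.of k)) (A : Art k k)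

/-- The trivial deformation on `X ×_k Spec A`. -/
noncomputable def triv : DefSch X x A where
  total := Art.XA x A
  f := Art.XApr x A
  flat := haveI := flat_str x; MorphismProperty.pullback_snd (P := @Flat) _ _ inferInstance
  i := Art.XAincl x A
  isPullback := isPullback_XAincl x A

/-- The projection to `X`. -/
noncomputable abbrev pr : Art.XA x A ⟶ X := pullback.fst x (Art.specOver A)

/-- The open over `W`. -/
noncomputable abbrev opn (W : X.Opens) : (Art.XA x A).Opens := pr x A ⁻¹ᵁ W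

/-- Functions over `W`. -/
abbrev S (W : X.Opens) : Type u := Γ(Art.XA x A, opn x A W)

theorem incl_opn (W : X.Opens) : Art.XAincl x A ⁻¹ᵁ opn x A W = W := by
  rw [← Scheme.Hom.comp_preimage, Art.XAincl_fst]
  rfl

theorem eq_opn (V : (Art.XA x A).Opens) : V = opn x A (Art.XAincl x A ⁻¹ᵁ V) := by
  refine Opens.ext (Set.ext fun z => ?_)
  obtain ⟨p, rfl⟩ := DefAut.surjective_i (triv x A) z
  exact Iff.of_eq (congrArg (fun U : X.Opens => p ∈ U) (incl_opn x A (Art.XAincl x A ⁻¹ᵁ V))).symm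

theorem isAffineOpen_opn {W : X.Opens} (h : IsAffineOpen W) : IsAffineOpen (opn x A W) :=
  isAffineOpen_of_i (triv x A) (U := opn x A W) (by
    rw [show (triv x A).i ⁻¹ᵁ opn x A W = W from incl_opn x A W]
    exact h)

theorem isAffineOpen_incl {V : (Art.XA x A).Opens} (h : IsAffineOpen V) :
    IsAffineOpen (Art.XAincl x A ⁻¹ᵁ V) :=
  haveI : IsClosedImmersion (Art.XAincl x A) :=
    (inferInstance : IsClosedImmersion (triv x A).i)
  h.preimage _

/-- Structure map. -/
noncomputable def str (W : X.Opens) : A →+* S x A W := sHom (Art.XApr x A) (opn x A W)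

/-- Reduction. -/
noncomputable def red (W : X.Opens) : S x A W →+* Γ(X, W) :=
  ((Art.XAincl x A).appLE (opn x A W) W (incl_opn x A W).ge).hom

/-- Constants. -/
noncomputable def cst (W : X.Opens) : Γ(X, W) →+* S x A W := ((pr x A).app W).hom

/-- Restriction. -/
noncomputable def rs {W W' : X.Opens} (h : W' ≤ W) : S x A W →+* S x A W' :=
  ((Art.XA x A).presheaf.map (homOfLE ((pr x A).preimage_mono h)).op).hom

theorem isDef (W : X.Opens) (h : IsAffineOpen W) : IsDefOn x W A (str x A W) (red x A W) :=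
  isDef_chart (triv x A) (isAffineOpen_opn x A h) (incl_opn x A W).symm

theorem red_surjective {W : X.Opens} (h : IsAffineOpen W) : Function.Surjective (red x A W) := by
  letI := (sHom x W).toAlgebra
  exact (isDef x A W h).surj

theorem red_str (W : X.Opens) (a : A) : red x A W (str x A W a) = sHom x W (A.res a) := by
  change (Art.XAincl x A).appLE _ _ _ _ = _
  rw [str, sHom_appLE, Art.XAincl_snd, sHom_specMap]
  rfl

theorem red_cst (W : X.Opens) (r : Γ(X, W)) : red x A W (cst x A W r) = r := by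
  change (Art.XAincl x A).appLE _ _ _ ((pr x A).app W r) = r
  rw [Scheme.Hom.app_eq_appLE, ← ConcreteCategory.comp_apply, Scheme.Hom.appLE_comp_appLE,
    DefGlue.appLE_congr' (Art.XAincl_fst x A)]
  simp only [Scheme.Hom.appLE, Scheme.Hom.id_app]
  erw [Category.id_comp]
  exact congr($((X.presheaf.map_id (Opposite.op W))) r)

theorem rs_rs {W W' W'' : X.Opens} (h : W' ≤ W) (h' : W'' ≤ W') (s : S x A W) :
    rs x A h' (rs x A h s) = rs x A (h'.trans h) s := by
  change (Art.XA x A).presheaf.map _ ((Art.XA x A).presheaf.map _ s) = _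
  rw [← ConcreteCategory.comp_apply, ← Functor.map_comp]
  rfl

theorem red_rs {W W' : X.Opens} (h : W' ≤ W) (s : S x A W) :
    red x A W' (rs x A h s) = X.presheaf.map (homOfLE h).op (red x A W s) := by
  change (Art.XAincl x A).appLE _ _ _ _ = X.presheaf.map _ ((Art.XAincl x A).appLE _ _ _ _)
  erw [← ConcreteCategory.comp_apply, ← ConcreteCategory.comp_apply, Scheme.Hom.map_appLE,
    Scheme.Hom.appLE_map]

theorem rs_str {W W' : X.Opens} (h : W' ≤ W) (a : A) : rs x A h (str x A W a) = str x A W' a := by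
  change (Art.XA x A).presheaf.map _ ((Art.XA x A).presheaf.map _ _) = _
  rw [← ConcreteCategory.comp_apply, ← Functor.map_comp]
  rfl

theorem rs_cst {W W' : X.Opens} (h : W' ≤ W) (r : Γ(X, W)) :
    rs x A h (cst x A W r) = cst x A W' (X.presheaf.map (homOfLE h).op r) :=
  congr($((pr x A).naturality (homOfLE h).op) r).symm

variable {A} {B C : Art k k}

theorem le_map (g : A ⟶ B) (W : X.Opens) : opn x B W ≤ Art.XAmap x g ⁻¹ᵁ opn x A W := by
  rw [← Scheme.Hom.comp_preimage, Art.XAmap_fst]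

/-- Base change on functions. -/
noncomputable def bc (g : A ⟶ B) (W : X.Opens) : S x A W →+* S x B W :=
  ((Art.XAmap x g).appLE (opn x A W) (opn x B W) (le_map x g W)).hom

theorem bc_str (g : A ⟶ B) (W : X.Opens) (a : A) : bc x g W (str x A W a) = str x B W (g a) := by
  change (Art.XAmap x g).appLE _ _ _ _ = _
  rw [str, sHom_appLE, Art.XAmap_snd, sHom_specMap]
  rfl

theorem red_bc (g : A ⟶ B) (W : X.Opens) (s : S x A W) : red x B W (bc x g W s) = red x A W s := by
  change (Art.XAincl x B).appLE _ _ _ ((Art.XAmap x g).appLE _ _ _ s) = (Art.XAincl x A).appLE _ _ _ s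
  rw [← ConcreteCategory.comp_apply, Scheme.Hom.appLE_comp_appLE,
    DefGlue.appLE_congr' (Art.XAincl_XAmap x g)]

theorem bc_cst (g : A ⟶ B) (W : X.Opens) (r : Γ(X, W)) : bc x g W (cst x A W r) = cst x B W r := by
  change (Art.XAmap x g).appLE _ _ _ ((pr x A).app W r) = (pr x B).app W r
  rw [Scheme.Hom.app_eq_appLE, Scheme.Hom.app_eq_appLE, ← ConcreteCategory.comp_apply,
    Scheme.Hom.appLE_comp_appLE, DefGlue.appLE_congr' (Art.XAmap_fst x g)]

theorem bc_rs (g : A ⟶ B) {W W' : X.Opens} (h : W' ≤ W) (s : S x A W) :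
    bc x g W' (rs x A h s) = rs x B h (bc x g W s) := by
  change (Art.XAmap x g).appLE _ _ _ _ = (Art.XA x B).presheaf.map _ ((Art.XAmap x g).appLE _ _ _ _)
  erw [← ConcreteCategory.comp_apply, ← ConcreteCategory.comp_apply, Scheme.Hom.map_appLE,
    Scheme.Hom.appLE_map]

theorem bc_bc (g : A ⟶ B) (g' : B ⟶ C) (W : X.Opens) (s : S x A W) :
    bc x g' W (bc x g W s) = bc x (g ≫ g') W s := by
  change (Art.XAmap x g').appLE _ _ _ ((Art.XAmap x g).appLE _ _ _ s) = (Art.XAmap x (g ≫ g')).appLE _ _ _ s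
  rw [← ConcreteCategory.comp_apply, Scheme.Hom.appLE_comp_appLE,
    DefGlue.appLE_congr' (Art.XAmap_comp x g g').symm]

variable (A)

theorem opn_basicOpen (W : X.Opens) (r : Γ(X, W)) :
    opn x A (X.basicOpen r) = (Art.XA x A).basicOpen (cst x A W r) :=
  Scheme.preimage_basicOpen _ _

theorem basicOpen_eq_opn {W : X.Opens} (f : S x A W) :
    (Art.XA x A).basicOpen f = opn x A (X.basicOpen (red x A W f)) := by
  refine (eq_opn x A _).trans (congrArg (opn x A) ?_)
  rw [red]
  erw [Scheme.basicOpen_appLE]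
  exact (inf_eq_right.2 (((Art.XAincl x A).preimage_mono ((Art.XA x A).basicOpen_le f)).trans
    (incl_opn x A W).le)).symm

theorem exists_rs_eq {W W' : X.Opens} (hW : IsAffineOpen W) (r : Γ(X, W)) (e : W' = X.basicOpen r)
    (s : S x A W') : ∃ (n : ℕ) (s₀ : S x A W),
      s * rs x A (e.le.trans (X.basicOpen_le r)) (cst x A W r) ^ n = rs x A (e.le.trans (X.basicOpen_le r)) s₀ := by
  subst e
  letI := (rs x A (X.basicOpen_le r)).toAlgebra
  haveI : IsLocalization.Away (cst x A W r) (S x A (X.basicOpen r)) :=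
    (isAffineOpen_opn x A hW).isLocalization_of_eq_basicOpen (cst x A W r) _ (opn_basicOpen x A W r)
  obtain ⟨⟨s₀, ⟨_, n, rfl⟩⟩, h⟩ := IsLocalization.surj (Submonoid.powers (cst x A W r)) s
  exact ⟨n, s₀, by rw [← map_pow]; exact h⟩

theorem exists_pow_mul_mem {W W' : X.Opens} (hW : IsAffineOpen W) (r : Γ(X, W)) (e : W' = X.basicOpen r)
    (J : Ideal (S x A W)) (s : S x A W)
    (hs : rs x A (e.le.trans (X.basicOpen_le r)) s ∈ J.map (rs x A (e.le.trans (X.basicOpen_le r)))) :
    ∃ n, cst x A W r ^ n * s ∈ J := by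
  subst e
  letI := (rs x A (X.basicOpen_le r)).toAlgebra
  haveI : IsLocalization.Away (cst x A W r) (S x A (X.basicOpen r)) :=
    (isAffineOpen_opn x A hW).isLocalization_of_eq_basicOpen (cst x A W r) _ (opn_basicOpen x A W r)
  obtain ⟨_, ⟨n, rfl⟩, h⟩ :=
    (IsLocalization.algebraMap_mem_map_algebraMap_iff (Submonoid.powers (cst x A W r)) _ J s).1 hs
  exact ⟨n, h⟩

variable {A}

/-- The affine open over an affine open. -/
noncomputable abbrev aff (W : X.affineOpens) : (Art.XA x A).affineOpens :=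
  ⟨opn x A W.1, isAffineOpen_opn x A W.2⟩

theorem iSup_aff : ⨆ W : X.affineOpens, (aff x (A := A) W).1 = ⊤ := by
  refine top_le_iff.1 fun z _ => ?_
  obtain ⟨W, hW⟩ := Opens.mem_iSup.1 ((iSup_affineOpens_eq_top X).ge (Set.mem_univ (pr x A z)))
  exact Opens.mem_iSup.2 ⟨W, hW⟩

/-- The ideal over an affine open. -/
noncomputable abbrev fam (I : (Art.XA x A).IdealSheafData) (W : X.affineOpens) : Ideal (S x A W.1) :=
  I.ideal (aff x W)

theorem fam_ext {I J : (Art.XA x A).IdealSheafData} (h : ∀ W, fam x I W = fam x J W) : I = J :=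
  Scheme.IdealSheafData.ext_of_iSup_eq_top (aff x) (iSup_aff x) h

theorem fam_map (I : (Art.XA x A).IdealSheafData) {W W' : X.affineOpens} (h : W'.1 ≤ W.1) :
    (fam x I W).map (rs x A h) = fam x I W' :=
  I.map_ideal (U := aff x W') (V := aff x W) ((pr x A).preimage_mono h)

theorem fam_comap (g : A ⟶ B) (I : (Art.XA x A).IdealSheafData) (W : X.affineOpens) :
    fam x (I.comap (Art.XAmap x g)) W = (fam x I W).map (bc x g W.1) :=
  Groth.Agent.IdealComap.ideal_comap I (Art.XAmap x g) (aff x W) (aff x W) (le_map x g W.1)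

theorem comap_incl (I : (Art.XA x A).IdealSheafData) (W : X.affineOpens) :
    (I.comap (Art.XAincl x A)).ideal W = (fam x I W).map (red x A W.1) :=
  Groth.Agent.IdealComap.ideal_comap I (Art.XAincl x A) W (aff x W) (incl_opn x A W.1).ge

theorem exists_idealSheaf (J : ∀ W : X.affineOpens, Ideal (S x A W.1))
    (h : ∀ (W W' : X.affineOpens) (r : Γ(X, W.1)) (e : W'.1 = X.basicOpen r),
      (J W).map (rs x A (e.le.trans (X.basicOpen_le r))) = J W') :
    ∃ I : (Art.XA x A).IdealSheafData, ∀ W, fam x I W = J W := by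
  let J' : ∀ V : (Art.XA x A).affineOpens, Ideal Γ(Art.XA x A, V.1) := fun V =>
    (J ⟨_, isAffineOpen_incl x A V.2⟩).map ((Art.XA x A).presheaf.map (homOfLE (eq_opn x A V.1).le).op).hom
  have key : ∀ (V : (Art.XA x A).affineOpens) (W : X.affineOpens) (e : V.1 = opn x A W.1),
      J' V = (J W).map ((Art.XA x A).presheaf.map (homOfLE e.le).op).hom := by
    intro V W e
    obtain ⟨W, hW⟩ := W
    obtain ⟨V, hV⟩ := V
    dsimp only at e
    obtain rfl : Art.XAincl x A ⁻¹ᵁ V = W := by rw [e, incl_opn]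
    rfl
  refine ⟨{ ideal := J', map_ideal_basicOpen := fun V f => ?_ }, fun W => ?_⟩
  · obtain ⟨V, hV⟩ := V
    obtain ⟨W, hW, rfl⟩ : ∃ W, IsAffineOpen W ∧ V = opn x A W :=
      ⟨_, isAffineOpen_incl x A hV, eq_opn x A V⟩
    let W' : X.affineOpens := ⟨_, hW.basicOpen (red x A W f)⟩
    rw [key ⟨_, hV⟩ ⟨W, hW⟩ rfl, key ((Art.XA x A).affineBasicOpen (U := ⟨_, hV⟩) f) W' (basicOpen_eq_opn x A f)]
    change ((J ⟨W, hW⟩).map _).map _ = _
    rw [← h ⟨W, hW⟩ W' (red x A W f) rfl, Ideal.map_map, Ideal.map_map]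
    refine congrArg (fun φ => (J ⟨W, hW⟩).map φ) ?_
    rw [rs, ← CommRingCat.hom_comp, ← CommRingCat.hom_comp, ← Functor.map_comp, ← Functor.map_comp]
    rfl
  · refine (key (aff x W) W rfl).trans ?_
    rw [show (homOfLE (le_refl (opn x A W.1))).op = 𝟙 _ from rfl, CategoryTheory.Functor.map_id]
    exact Ideal.map_id _

theorem flat_fam {I : (Art.XA x A).IdealSheafData} (h : FlatOver X x A I) (W : X.affineOpens) :
    ((Ideal.Quotient.mk (fam x I W)).comp (str x A W.1)).Flat := by
  haveI : Flat (I.subschemeι ≫ Art.XApr x A) := h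
  have hV : IsAffineOpen (I.subschemeι ⁻¹ᵁ opn x A W.1) := (isAffineOpen_opn x A W.2).preimage _
  have h1 : (sHom (I.subschemeι ≫ Art.XApr x A) (I.subschemeι ⁻¹ᵁ opn x A W.1)).Flat := by
    have h0 := (I.subschemeι ≫ Art.XApr x A).flat_appLE (isAffineOpen_top (Spec (CommRingCat.of A))) hV le_top
    exact (RingHom.Flat.of_bijective
      (Scheme.ΓSpecIso (CommRingCat.of A)).commRingCatIsoToRingEquiv.symm.bijective).comp h0
  let e := (I.subschemeObjIso (aff x W)).commRingCatIsoToRingEquiv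
  have h2 := h1.comp (RingHom.Flat.of_bijective (f := e.toRingHom) e.bijective)
  refine (congrArg RingHom.Flat (RingHom.ext fun a => ?_)).mp h2
  change e (sHom (I.subschemeι ≫ Art.XApr x A) _ a) = Ideal.Quotient.mk _ (str x A W.1 a)
  rw [← sHom_appLE I.subschemeι (Art.XApr x A) (opn x A W.1) _ le_rfl, ← Scheme.Hom.app_eq_appLE]
  rw [show I.subschemeι.app (opn x A W.1) = _ from I.subschemeι_app (aff x W)]
  exact e.apply_symm_apply _

theorem flatOver_of_fam {I : (Art.XA x A).IdealSheafData}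
    (h : ∀ W, ((Ideal.Quotient.mk (fam x I W)).comp (str x A W.1)).Flat) : FlatOver X x A I := by
  refine HasRingHomProperty.of_iSup_eq_top (P := @Flat)
    (fun W : X.affineOpens => ⟨I.subschemeι ⁻¹ᵁ opn x A W.1, (isAffineOpen_opn x A W.2).preimage _⟩) ?_ fun W => ?_
  · change ⨆ W : X.affineOpens, I.subschemeι ⁻¹ᵁ opn x A W.1 = ⊤
    refine top_le_iff.1 fun z _ => ?_
    obtain ⟨W, hW⟩ := Opens.mem_iSup.1 ((iSup_aff x (A := A)).ge (Set.mem_univ (I.subschemeι z)))
    exact Opens.mem_iSup.2 ⟨W, hW⟩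
  let e := (I.subschemeObjIso (aff x W)).commRingCatIsoToRingEquiv
  let eA := (Scheme.ΓSpecIso (CommRingCat.of A)).commRingCatIsoToRingEquiv
  have h2 := ((RingHom.Flat.of_bijective (f := eA.toRingHom) eA.bijective).comp (h W)).comp
    (RingHom.Flat.of_bijective (f := e.symm.toRingHom) e.symm.bijective)
  refine (congrArg RingHom.Flat (RingHom.ext fun a => ?_)).mp h2
  change e.symm (Ideal.Quotient.mk _ (str x A W.1 (eA a))) = (I.subschemeι ≫ Art.XApr x A).appLE ⊤ _ le_top a
  have h3 : sHom (I.subschemeι ≫ Art.XApr x A) (I.subschemeι ⁻¹ᵁ opn x A W.1) (eA a) =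
      (I.subschemeι ≫ Art.XApr x A).appLE ⊤ _ le_top a :=
    congrArg ((I.subschemeι ≫ Art.XApr x A).appLE ⊤ _ le_top) (eA.symm_apply_apply a)
  rw [← h3, ← sHom_appLE I.subschemeι (Art.XApr x A) (opn x A W.1) _ le_rfl, ← Scheme.Hom.app_eq_appLE]
  rw [show I.subschemeι.app (opn x A W.1) = _ from I.subschemeι_app (aff x W)]
  rfl

variable (I₀ : X.IdealSheafData)

/-- Goodness on an affine open. -/
abbrev GoodAt (W : X.affineOpens) (J : Ideal (S x A W.1)) : Prop :=
  Good (str x A W.1) (red x A W.1) (I₀.ideal W) J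

theorem goodAt_fam (I : (localHilb X x I₀).obj A) (W : X.affineOpens) : GoodAt x I₀ W (fam x I.1 W) :=
  ⟨by rw [← comap_incl, I.2.2], flat_fam x I.2.1 W⟩

theorem exists_obj (J : ∀ W : X.affineOpens, Ideal (S x A W.1))
    (h : ∀ (W W' : X.affineOpens) (r : Γ(X, W.1)) (e : W'.1 = X.basicOpen r),
      (J W).map (rs x A (e.le.trans (X.basicOpen_le r))) = J W')
    (hJ : ∀ W, GoodAt x I₀ W (J W)) : ∃ I : (localHilb X x I₀).obj A, ∀ W, fam x I.1 W = J W := by
  obtain ⟨I, hI⟩ := exists_idealSheaf x J h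
  refine ⟨⟨I, flatOver_of_fam x fun W => hI W ▸ (hJ W).flat, ?_⟩, hI⟩
  refine Scheme.IdealSheafData.ext (funext fun W => ?_)
  rw [comap_incl, hI, (hJ W).red_eq]

theorem obj_ext {I J : (localHilb X x I₀).obj A} (h : ∀ W, fam x I.1 W = fam x J.1 W) : I = J :=
  Subtype.ext (fam_ext x h)

theorem fam_obj_map (g : A ⟶ B) (I : (localHilb X x I₀).obj A) (W : X.affineOpens) :
    fam x ((localHilb X x I₀).map g I).1 W = (fam x I.1 W).map (bc x g W.1) :=
  fam_comap x g I.1 W

theorem goodAt_map (g : A ⟶ B) (I : (localHilb X x I₀).obj A) (W : X.affineOpens) :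
    GoodAt x I₀ W ((fam x I.1 W).map (bc x g W.1)) :=
  fam_obj_map x I₀ g I W ▸ goodAt_fam x I₀ ((localHilb X x I₀).map g I) W

end Groth.Agent.HilbLoc
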