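import Groth.Agent.HilbLoc.Basic
import Groth.Prelude.Def_ArtFun2

/-!
# Left exactness of the local Hilbert functor along surjections
-/

set_option autoImplicit false
set_option linter.unusedSectionVars false
universe u

open CategoryTheory CategoryTheory.Limits AlgebraicGeometry IsLocalRing ArtFun TopologicalSpace
open Groth.Agent.DefGlue

namespace Groth.Agent.HilbLoc

variable {k : Type u} [Field k] {X : Scheme.{u}} (x : X ⟶ Spec (CommRingCat.of k)) (I₀ : X.IdealSheafData)
variable {A B : Art k k}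

theorem exists_mem_of_rs_mem (I : (Art.XA x A).IdealSheafData) {W W' : X.affineOpens} (r : Γ(X, W.1))
    (e : W'.1 = X.basicOpen r) (s : S x A W.1)
    (hs : rs x A (e.le.trans (X.basicOpen_le r)) s ∈ fam x I W') : ∃ n, cst x A W.1 r ^ n * s ∈ fam x I W :=
  exists_pow_mul_mem x A W.2 r e _ s (fam_map x I (e.le.trans (X.basicOpen_le r)) ▸ hs)

theorem flat_of_field {K : Type u} [Field K] {R : Type u} [CommRing R] (φ : K →+* R) : φ.Flat :=
  let := φ.toAlgebra
  (inferInstance : Module.Flat K R)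

theorem isUnit_rs_cst {W W' : X.affineOpens} (r : Γ(X, W.1)) (e : W'.1 = X.basicOpen r) :
    IsUnit (rs x A (e.le.trans (X.basicOpen_le r)) (cst x A W.1 r)) := by
  rw [rs_cst]
  refine IsUnit.map (cst x A W'.1) ?_
  have h := X.toLocallyRingedSpace.toRingedSpace.isUnit_res_basicOpen r
  have h' := h.map (X.presheaf.map (homOfLE e.le).op).hom
  change IsUnit (X.presheaf.map (homOfLE e.le).op (X.presheaf.map _ r)) at h'
  rw [← ConcreteCategory.comp_apply, ← Functor.map_comp] at h'
  exact h'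

theorem h0 : H0 (localHilb X x I₀) := by
  have hker : ∀ W : X.affineOpens, Function.Injective (red x (Art.base k k) W.1) := fun W => by
    let := (sHom x W.1).toAlgebra
    refine (injective_iff_map_eq_zero _).2 fun r hr => ?_
    have h := (isDef x (Art.base k k) W.1 W.2).ker_le hr
    rw [show maximalIdeal (Art.base k k) = ⊥ from (IsLocalRing.isField_iff_maximalIdeal_eq.1
      (Field.toIsField k)), Ideal.map_bot, Ideal.mem_bot] at h
    exact h
  constructor
  · obtain ⟨J, -⟩ := exists_obj x I₀ (A := Art.base k k) (fun W => (I₀.ideal W).comap (red x _ W.1))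
      (fun W W' r e => by
        have he := e.le.trans (X.basicOpen_le r)
        refine le_antisymm (Ideal.map_le_iff_le_comap.2 fun s hs => ?_) fun s hs => ?_
        · rw [Ideal.mem_comap, Ideal.mem_comap, red_rs, ← I₀.map_ideal (U := W') (V := W) he]
          exact Ideal.mem_map_of_mem _ hs
        · have hc : (red x _ W'.1).comp (rs x (Art.base k k) he) =
              (X.presheaf.map (homOfLE he).op).hom.comp (red x _ W.1) :=
            RingHom.ext (red_rs x _ he)
          have h1 : red x _ W'.1 s ∈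
              (((I₀.ideal W).comap (red x _ W.1)).map (rs x (Art.base k k) he)).map (red x _ W'.1) := by
            rw [Ideal.map_map, hc, ← Ideal.map_map, Ideal.map_comap_of_surjective _ (red_surjective x _ W.2)]
            exact (I₀.map_ideal (U := W') (V := W) he).ge hs
          obtain ⟨t, ht, hts⟩ := (Ideal.mem_map_iff_of_surjective _ (red_surjective x _ W'.2)).1 h1
          rwa [← hker W' hts])
      (fun W => ⟨Ideal.map_comap_of_surjective _ (red_surjective x _ W.2) _, by
        exact flat_of_field (K := k) _⟩)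
    exact ⟨J⟩
  · refine ⟨fun I J => obj_ext x I₀ fun W => ?_⟩
    have h : ∀ I : (localHilb X x I₀).obj (Art.base k k),
        fam x I.1 W = (I₀.ideal W).comap (red x _ W.1) := fun I => by
      rw [← (goodAt_fam x I₀ I W).red_eq]
      exact (Ideal.comap_map_of_bijective _ ⟨hker W, red_surjective x _ W.2⟩).symm
    rw [h, h]

variable {A' A'' : Art k k} {p' : B ⟶ A'} {p'' : B ⟶ A''} {f' : A' ⟶ A} {f'' : A'' ⟶ A}

/-- The ideal over a fibre product. -/
noncomputable abbrev fib (p' : B ⟶ A') (p'' : B ⟶ A'') (J' : (localHilb X x I₀).obj A')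
    (J'' : (localHilb X x I₀).obj A'') (W : X.affineOpens) : Ideal (S x B W.1) :=
  (fam x J'.1 W).comap (bc x p' W.1) ⊓ (fam x J''.1 W).comap (bc x p'' W.1)

theorem goodAt_fib (h : Art.IsFibreProd p' p'' f' f'') (hf : Function.Surjective f'')
    (J' : (localHilb X x I₀).obj A') (J'' : (localHilb X x I₀).obj A'')
    (hJ : (localHilb X x I₀).map f' J' = (localHilb X x I₀).map f'' J'') (W : X.affineOpens) :
    GoodAt x I₀ W (fib x I₀ p' p'' J' J'' W) := by
  let := (sHom x W.1).toAlgebra
  refine Good.fibre h hf (isDef x B W.1 W.2) (isDef x A W.1 W.2) (isDef x A' W.1 W.2) (isDef x A'' W.1 W.2)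
    (bc_str x p' W.1) (bc_str x p'' W.1) (red_bc x p' W.1) (red_bc x p'' W.1)
    (bc_str x f' W.1) (bc_str x f'' W.1) (red_bc x f' W.1) (red_bc x f'' W.1)
    (fun r => by rw [bc_bc, bc_bc, h.w])
    (goodAt_map x I₀ f' J' W) (goodAt_fam x I₀ J' W) (goodAt_fam x I₀ J'' W) le_rfl ?_
  rw [← fam_obj_map, ← fam_obj_map, hJ]

theorem eq_fib (h : Art.IsFibreProd p' p'' f' f'') (hf : Function.Surjective f'')
    (z : (localHilb X x I₀).obj B) (J' : (localHilb X x I₀).obj A') (J'' : (localHilb X x I₀).obj A'')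
    (hJ : (localHilb X x I₀).map f' J' = (localHilb X x I₀).map f'' J'')
    (h' : (localHilb X x I₀).map p' z = J') (h'' : (localHilb X x I₀).map p'' z = J'') (W : X.affineOpens) :
    fam x z.1 W = fib x I₀ p' p'' J' J'' W := by
  let := (sHom x W.1).toAlgebra
  refine (goodAt_fam x I₀ z W).eq_of_le (isDef x B W.1 W.2) (goodAt_fib x I₀ h hf J' J'' hJ W)
    (le_inf ?_ ?_)
  · rw [← Ideal.map_le_iff_le_comap, ← fam_obj_map, h']
  · rw [← Ideal.map_le_iff_le_comap, ← fam_obj_map, h'']

theorem exists_fib (h : Art.IsFibreProd p' p'' f' f'') (hf : Function.Surjective f'')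
    (J' : (localHilb X x I₀).obj A') (J'' : (localHilb X x I₀).obj A'')
    (hJ : (localHilb X x I₀).map f' J' = (localHilb X x I₀).map f'' J'') :
    ∃ z : (localHilb X x I₀).obj B,
      (localHilb X x I₀).map p' z = J' ∧ (localHilb X x I₀).map p'' z = J'' := by
  obtain ⟨z, hz⟩ := exists_obj x I₀ (fib x I₀ p' p'' J' J'')
    (fun W W' r e => by
      have he := e.le.trans (X.basicOpen_le r)
      refine le_antisymm (Ideal.map_le_iff_le_comap.2 fun s hs => ⟨?_, ?_⟩) fun s hs => ?_
      · rw [SetLike.mem_coe, Ideal.mem_comap, bc_rs, ← fam_map x J'.1 he]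
        exact Ideal.mem_map_of_mem _ hs.1
      · rw [SetLike.mem_coe, Ideal.mem_comap, bc_rs, ← fam_map x J''.1 he]
        exact Ideal.mem_map_of_mem _ hs.2
      · obtain ⟨n, s₀, hn⟩ := exists_rs_eq x B W.2 r e s
        have hmem : ∀ {A₁ : Art k k} (p : B ⟶ A₁) (I : (Art.XA x A₁).IdealSheafData),
            bc x p W'.1 s ∈ fam x I W' → ∃ m, bc x p W.1 (cst x B W.1 r ^ m * s₀) ∈ fam x I W := by
          intro A₁ p I hp
          have h3 : rs x A₁ he (bc x p W.1 s₀) ∈ fam x I W' := by
            rw [← bc_rs, ← hn, map_mul]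
            exact Ideal.mul_mem_right _ _ hp
          obtain ⟨m, hm⟩ := exists_mem_of_rs_mem x I r e _ h3
          exact ⟨m, by rwa [map_mul, map_pow, bc_cst]⟩
        obtain ⟨m₁, hm₁⟩ := hmem p' J'.1 hs.1
        obtain ⟨m₂, hm₂⟩ := hmem p'' J''.1 hs.2
        have h4 : cst x B W.1 r ^ (m₁ + m₂) * s₀ ∈ fib x I₀ p' p'' J' J'' W := by
          refine ⟨?_, ?_⟩
          · rw [SetLike.mem_coe, Ideal.mem_comap, add_comm m₁, pow_add, mul_assoc, map_mul]
            exact Ideal.mul_mem_left _ _ hm₁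
          · rw [SetLike.mem_coe, Ideal.mem_comap, pow_add, mul_assoc, map_mul]
            exact Ideal.mul_mem_left _ _ hm₂
        have h5 := Ideal.mem_map_of_mem (rs x B he) h4
        rw [map_mul, map_pow, ← hn] at h5
        rw [Ideal.unit_mul_mem_iff_mem _ ((isUnit_rs_cst x r e).pow _),
          Ideal.mul_unit_mem_iff_mem _ ((isUnit_rs_cst x r e).pow _)] at h5
        exact h5)
    (goodAt_fib x I₀ h hf J' J'' hJ)
  refine ⟨z, obj_ext x I₀ fun W => ?_, obj_ext x I₀ fun W => ?_⟩
  · let := (sHom x W.1).toAlgebra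
    refine (goodAt_fam x I₀ _ W).eq_of_le (isDef x A' W.1 W.2) (goodAt_fam x I₀ J' W) ?_
    rw [fam_obj_map, hz]
    exact Ideal.map_le_iff_le_comap.2 inf_le_left
  · let := (sHom x W.1).toAlgebra
    refine (goodAt_fam x I₀ _ W).eq_of_le (isDef x A'' W.1 W.2) (goodAt_fam x I₀ J'' W) ?_
    rw [fam_obj_map, hz]
    exact Ideal.map_le_iff_le_comap.2 inf_le_right

theorem bijective_cmp (h : Art.IsFibreProd p' p'' f' f'') (hf : Function.Surjective f'') :
    Function.Bijective (cmp (localHilb X x I₀) h) := by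
  refine ⟨fun z z' hz => obj_ext x I₀ fun W => ?_, fun y => ?_⟩
  · have hj := (cmp (localHilb X x I₀) h z').2
    rw [eq_fib x I₀ h hf z _ _ hj (congrArg (fun y => y.1.1) hz) (congrArg (fun y => y.1.2) hz) W,
      eq_fib x I₀ h hf z' _ _ hj rfl rfl W]
  · obtain ⟨z, h1, h2⟩ := exists_fib x I₀ h hf y.1.1 y.1.2 y.2
    exact ⟨z, Subtype.ext (Prod.ext h1 h2)⟩

theorem hbar : Hbar (localHilb X x I₀) := fun _ _ _ _ _ _ _ _ h hf => (bijective_cmp x I₀ h hf.1).2

theorem heps : Heps (localHilb X x I₀) := fun _ _ _ _ h =>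
  bijective_cmp x I₀ h (fun c => ⟨TrivSqZeroExt.inl c, rfl⟩)

theorem hsq : HSq (localHilb X x I₀) := fun _ _ _ _ _ _ h hf => bijective_cmp x I₀ h hf.1

theorem s1 : S1 (localHilb X x I₀) := fun _ _ _ _ _ _ _ _ h hf => (bijective_cmp x I₀ h hf).2

end Groth.Agent.HilbLoc
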