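import Groth.Agent.QCohLib.Closure
import Groth.Agent.QCohLib.Cover
import Groth.Agent.ConormalSection.Ideal
import Mathlib.Topology.Sheaves.SheafCondition.UniqueGluing

/-!
# Morphisms of modules from their values on affine opens
-/

set_option autoImplicit false
set_option linter.unusedSectionVars false
universe u

open CategoryTheory CategoryTheory.Limits AlgebraicGeometry TopologicalSpace Opposite
open Groth.Agent.QCohLib

namespace Groth.Agent.HilbLoc

variable {X : Scheme.{u}} {M N : X.Modules}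

/-- The underlying sheaf of abelian groups. -/
noncomputable def shf (N : X.Modules) : TopCat.Sheaf AddCommGrpCat.{u} X := ⟨N.presheaf, N.isSheaf⟩

/-- Sections agree if they agree on smaller affine opens. -/
theorem sect_ext (N : X.Modules) {V : X.Opens} {s t : Γ(N, V)}
    (h : ∀ (W : X.affineOpens) (hW : W.1 ≤ V),
      N.presheaf.map (homOfLE hW).op s = N.presheaf.map (homOfLE hW).op t) : s = t := by
  refine TopCat.Sheaf.eq_of_locally_eq' (shf N)
    (fun W : {W : X.affineOpens // W.1 ≤ V} => W.1.1) V (fun W => homOfLE W.2) (fun p hp => ?_) s t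
    fun W => h W.1 W.2
  obtain ⟨_, ⟨W, hW, rfl⟩, hpW, hWV⟩ := X.isBasis_affineOpens.exists_subset_of_mem_open hp V.2
  exact Opens.mem_iSup.2 ⟨⟨⟨W, hW⟩, hWV⟩, hpW⟩

theorem hom_ext_affine {φ ψ : M ⟶ N} (h : ∀ (W : X.affineOpens) m, φ.app W.1 m = ψ.app W.1 m) : φ = ψ := by
  refine Scheme.Modules.hom_ext _ _ fun V => ?_
  refine ConcreteCategory.hom_ext _ _ fun m => sect_ext N fun W hW => ?_
  rw [← app_map φ hW, ← app_map ψ hW, h]

theorem mono_of_affine_injective (φ : M ⟶ N)
    (h : ∀ W : X.affineOpens, Function.Injective (φ.app W.1)) : Mono φ := by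
  rw [mono_iff_app_injective]
  intro V s t hst
  refine sect_ext M fun W hW => h W ?_
  rw [app_map φ hW, app_map φ hW, hst]

/-- A natural family of linear maps on affine opens comes from a morphism. -/
theorem exists_hom_of_affine (f : ∀ W : X.affineOpens, Γ(M, W.1) →+ Γ(N, W.1))
    (hs : ∀ (W : X.affineOpens) (r : Γ(X, W.1)) (m : Γ(M, W.1)), f W (r • m) = r • f W m)
    (hn : ∀ (W W' : X.affineOpens) (h : W'.1 ≤ W.1) (m : Γ(M, W.1)),
      N.presheaf.map (homOfLE h).op (f W m) = f W' (M.presheaf.map (homOfLE h).op m)) :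
    ∃ φ : M ⟶ N, ∀ (W : X.affineOpens) m, φ.app W.1 m = f W m := by
  have key : ∀ (V : X.Opens) (m : Γ(M, V)), ∃ t : Γ(N, V), ∀ (W : X.affineOpens) (hW : W.1 ≤ V),
      N.presheaf.map (homOfLE hW).op t = f W (M.presheaf.map (homOfLE hW).op m) := by
    intro V m
    obtain ⟨t, ht, -⟩ := TopCat.Sheaf.existsUnique_gluing' (shf N)
      (fun W : {W : X.affineOpens // W.1 ≤ V} => W.1.1) V (fun W => homOfLE W.2) (fun p hp => by
        obtain ⟨_, ⟨W, hW, rfl⟩, hpW, hWV⟩ := X.isBasis_affineOpens.exists_subset_of_mem_open hp V.2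
        exact Opens.mem_iSup.2 ⟨⟨⟨W, hW⟩, hWV⟩, hpW⟩)
      (fun W => f W.1 (M.presheaf.map (homOfLE W.2).op m)) (fun W₁ W₂ => by
        change N.presheaf.map (homOfLE inf_le_left).op _ = N.presheaf.map (homOfLE inf_le_right).op _
        refine sect_ext N fun W hW => ?_
        rw [map_map, map_map, hn W₁.1 W (hW.trans inf_le_left), hn W₂.1 W (hW.trans inf_le_right), map_map,
          map_map])
    exact ⟨t, fun W hW => ht ⟨W, hW⟩⟩
  choose g hg using key
  have hadd : ∀ V (a b : Γ(M, V)), g V (a + b) = g V a + g V b := fun V a b => sect_ext N fun W hW => by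
    rw [map_add, hg, hg, hg, map_add, map_add]
  have hnat : ∀ {V V' : X.Opens} (h : V' ≤ V) (m : Γ(M, V)),
      g V' (M.presheaf.map (homOfLE h).op m) = N.presheaf.map (homOfLE h).op (g V m) := fun h m =>
    sect_ext N fun W hW => by rw [map_map, hg, hg, map_map]
  have hsmul : ∀ V (r : Γ(X, V)) (m : Γ(M, V)), g V (r • m) = r • g V m := fun V r m =>
    sect_ext N fun W hW => by
      rw [Scheme.Modules.map_smul, hg, hg, Scheme.Modules.map_smul, hs]
  let φ : M ⟶ N := ⟨PresheafOfModules.homMk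
    { app := fun V => AddCommGrpCat.ofHom (AddMonoidHom.mk' (g V.unop) (hadd V.unop))
      naturality := fun V V' i => by
        ext m
        exact hnat i.unop.le m }
    (fun V r m => hsmul V.unop r m)⟩
  refine ⟨φ, fun W m => ?_⟩
  change g W.1 m = f W m
  have h := hg W.1 m W le_rfl
  rwa [map_self, map_self] at h

theorem exists_preimage_of_app_eq_zero {P : X.Modules} [M.IsQuasicoherent] [N.IsQuasicoherent]
    (φ : M ⟶ N) (π : N ⟶ P) (hπ : φ ≫ π = 0) (hex : (ShortComplex.mk φ π hπ).Exact)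
    (W : X.affineOpens) {n : Γ(N, W.1)} (hn : π.app W.1 n = 0) : ∃ m, φ.app W.1 m = n := by
  obtain ⟨c, hc⟩ := (exists_kernel_app_eq π W.1 n).1 hn
  haveI : Epi (kernel.lift π φ hπ) := (ShortComplex.exact_iff_epi_kernel_lift _).1 hex
  have hqk : (kernel π).IsQuasicoherent → ∃ m, φ.app W.1 m = n := fun _ => by
    obtain ⟨m, hm⟩ := app_surjective_of_epi (kernel.lift π φ hπ) W.2 c
    refine ⟨m, ?_⟩
    rw [← hc, ← hm, ← CategoryTheory.comp_apply, ← Scheme.Modules.Hom.comp_app, kernel.lift_ι]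
  refine hqk ?_
  haveI : (cokernel φ).IsQuasicoherent := isQuasicoherent_cokernel φ
  haveI := isQuasicoherent_kernel (cokernel.π φ)
  let d := cokernel.desc φ π hπ
  haveI : Mono d := (ShortComplex.exact_iff_mono_cokernel_desc _).1 hex
  exact isQuasicoherent_of_iso (M := kernel (cokernel.π φ))
    ((kernelCompMono (cokernel.π φ) d).symm ≪≫ kernelIsoOfEq (cokernel.π_desc _ _ _))

theorem exists_preimage_of_cokernel_eq_zero [M.IsQuasicoherent] [N.IsQuasicoherent] (φ : M ⟶ N)
    (W : X.affineOpens) {n : Γ(N, W.1)} (hn : (cokernel.π φ).app W.1 n = 0) : ∃ m, φ.app W.1 m = n :=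
  exists_preimage_of_app_eq_zero φ (cokernel.π φ) (cokernel.condition φ)
    (ShortComplex.exact_cokernel φ) W hn

section quotMod

variable (I : X.IdealSheafData)

/-- The class of a function. -/
noncomputable def qcl (W : X.Opens) : Γ(X, W) →+ Γ(ClSub.quotMod I, W) :=
  (I.subschemeι.app W).hom.toAddMonoidHom

theorem qcl_smul (W : X.Opens) (r s : Γ(X, W)) : qcl I W (r * s) = r • qcl I W s :=
  map_mul (I.subschemeι.app W).hom r s

theorem qcl_surjective (W : X.affineOpens) : Function.Surjective (qcl I W.1) :=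
  I.subschemeι_app_surjective W

theorem qcl_eq_zero (W : X.affineOpens) (r : Γ(X, W.1)) : qcl I W.1 r = 0 ↔ r ∈ I.ideal W := by
  rw [← I.ker_subschemeι_app W]
  rfl

theorem qcl_map {W W' : X.Opens} (h : W' ≤ W) (r : Γ(X, W)) :
    (ClSub.quotMod I).presheaf.map (homOfLE h).op (qcl I W r) = qcl I W' (X.presheaf.map (homOfLE h).op r) :=
  congr($(I.subschemeι.naturality (homOfLE h).op) r).symm

theorem idealSect_map {W W' : X.Opens} (h : W' ≤ W) (m : Γ(ClSub.idealMod I, W)) :
    OmegaSh.idealSect I W' ((ClSub.idealMod I).presheaf.map (homOfLE h).op m) =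
      X.presheaf.map (homOfLE h).op (OmegaSh.idealSect I W m) :=
  app_map (ClSub.idealModι I) h m

end quotMod

end Groth.Agent.HilbLoc
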