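import Groth.Agent.HilbLoc.Flat
import Groth.Agent.HilbLoc.ModData
import Groth.Agent.CohFinite.ClosedDescent
import Groth.Agent.ConormalSection.TestHom
import Groth.Agent.InvBasic.QCoh

/-!
# Locally split extensions by a pushforward descend to the closed subscheme
-/

set_option autoImplicit false
set_option linter.unusedSectionVars false
set_option backward.isDefEq.respectTransparency false
universe u

open CategoryTheory CategoryTheory.Limits AlgebraicGeometry TopologicalSpace Opposite
open Groth.Agent.ConormalSection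

namespace Groth.Agent.HilbLoc

variable {X : Scheme.{u}} (I₀ : X.IdealSheafData)

/-- Zero is detected on affines inside a cover. -/
theorem mono_of_cover {Z : Scheme.{u}} {M N : Z.Modules} (φ : M ⟶ N) {J : Type*} (U : J → Z.Opens)
    (hU : ∀ p, ∃ j, p ∈ U j)
    (h : ∀ (W : Z.affineOpens) (j : J), W.1 ≤ U j → Function.Injective (φ.app W.1)) : Mono φ := by
  refine mono_of_affine_injective φ fun W => ?_
  intro s t hst
  refine TopCat.Sheaf.eq_of_locally_eq' (shf M)
    (fun P : {P : Z.affineOpens × J // P.1.1 ≤ W.1 ∧ P.1.1 ≤ U P.2} => P.1.1.1) W.1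
    (fun P => homOfLE P.2.1) (fun p hp => ?_) s t fun P => ?_
  · obtain ⟨j, hj⟩ := hU p
    obtain ⟨_, ⟨V, hV, rfl⟩, hpV, hle⟩ :=
      Z.isBasis_affineOpens.exists_subset_of_mem_open (show p ∈ W.1 ⊓ U j from ⟨hp, hj⟩) (W.1 ⊓ U j).2
    exact Opens.mem_iSup.2 ⟨⟨(⟨V, hV⟩, j), fun q hq => (hle hq).1, fun q hq => (hle hq).2⟩, hpV⟩
  · refine h P.1.1 P.1.2 P.2.2 ?_
    change φ.app _ (M.presheaf.map (homOfLE P.2.1).op s) = φ.app _ (M.presheaf.map (homOfLE P.2.1).op t)
    rw [QCohLib.app_map, QCohLib.app_map, hst]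

theorem exists_retraction_descend' {E : X.Modules} [E.IsQuasicoherent]
    (α : ClSub.quotMod I₀ ⟶ E) (β : E ⟶ ClSub.idealMod I₀) (w : α ≫ β = 0)
    (hS : (ShortComplex.mk α β w).ShortExact)
    (hloc : ∀ p : I₀.subscheme, ∃ V : X.affineOpens, I₀.subschemeι p ∈ V.1 ∧
      ∃ l : Γ(E, V.1) →+ Γ(ClSub.quotMod I₀, V.1),
        (∀ (r : Γ(X, V.1)) e, l (r • e) = r • l e) ∧ ∀ q, l (α.app V.1 q) = q)
    (h : ∀ {M : I₀.subscheme.Modules} (a : Coh.structureModule I₀.subscheme ⟶ M)
      (b : M ⟶ (Scheme.Modules.pullback I₀.subschemeι).obj (ClSub.idealMod I₀)) (hab : a ≫ b = 0),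
      (ShortComplex.mk a b hab).ShortExact → ∃ r : M ⟶ Coh.structureModule I₀.subscheme, a ≫ r = 𝟙 _) :
    ∃ r : E ⟶ ClSub.quotMod I₀, α ≫ r = 𝟙 _ := by
  let ι := I₀.subschemeι
  let O := Coh.structureModule I₀.subscheme
  let adj := Scheme.Modules.pullbackPushforwardAdjunction ι
  haveI := InvBasic.isQuasicoherent_structureModule I₀.subscheme
  haveI : IsIso (adj.counit.app O) := CohFinite.isIso_counit ι O
  haveI := hS.epi_g
  let a : O ⟶ (Scheme.Modules.pullback ι).obj E := inv (adj.counit.app O) ≫ (Scheme.Modules.pullback ι).map α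
  let b := (Scheme.Modules.pullback ι).map β
  have hab : a ≫ b = 0 := by
    change (inv (adj.counit.app O) ≫ (Scheme.Modules.pullback ι).map α) ≫ b = 0
    rw [Category.assoc, ← Functor.map_comp, w, Functor.map_zero, comp_zero]
  haveI : Epi b := (Scheme.Modules.pullback ι).map_epi β
  haveI : Mono a := by
    choose V hpV l hl hlα using hloc
    refine mono_of_cover a (fun p => ι ⁻¹ᵁ (V p).1) (fun p => ⟨p, hpV p⟩) fun W p hW => ?_
    let φ := ι.appLE (V p).1 W.1 hW
    let res : Γ(ClSub.quotMod I₀, (V p).1) →+ Γ(I₀.subscheme, W.1) :=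
      (I₀.subscheme.presheaf.map (homOfLE hW).op).hom.toAddMonoidHom
    obtain ⟨N, ψ, r, hr, hrs, -, hψ⟩ := exists_testHom ι E (V p).2 W.2 hW
      (ModuleCat.of Γ(I₀.subscheme, W.1) Γ(I₀.subscheme, W.1)) (res.comp (l p)) (fun c e => by
        change I₀.subscheme.presheaf.map (homOfLE hW).op (l p (c • e)) =
          φ c * I₀.subscheme.presheaf.map (homOfLE hW).op (l p e)
        rw [hl]
        exact map_mul (I₀.subscheme.presheaf.map (homOfLE hW).op).hom (ι.app (V p).1 c) (l p e))
    obtain ⟨one, hone⟩ : ∃ q : Γ(ClSub.quotMod I₀, (V p).1), res q = 1 := ⟨ι.app (V p).1 1, by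
      change I₀.subscheme.presheaf.map _ (ι.app (V p).1 1) = 1
      rw [map_one, map_one]⟩
    have hc : ∀ q : Γ(ClSub.quotMod I₀, (V p).1),
        (adj.counit.app O).app W.1 (pullRes ι (ClSub.quotMod I₀) hW q) = res q := fun q => by
      rw [pullRes]
      refine (QCohLib.app_map (adj.counit.app O) hW _).trans ?_
      exact congrArg _ congr(($(adj.right_triangle_components O)).app (V p).1 q)
    have hinv : (inv (adj.counit.app O)).app W.1 (show Γ(O, W.1) from res one) = pullRes ι (ClSub.quotMod I₀) hW one := by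
      rw [← hc one, ← ConcreteCategory.comp_apply, ← Scheme.Modules.Hom.comp_app, IsIso.hom_inv_id]
      rfl
    have hnat : ((Scheme.Modules.pullback ι).map α).app W.1 (pullRes ι (ClSub.quotMod I₀) hW one) =
        pullRes ι E hW (α.app (V p).1 one) := by
      rw [pullRes, pullRes, QCohLib.app_map]
      exact congrArg _ congr(($(adj.unit.naturality α)).app (V p).1 one).symm
    have key : ∀ u : Γ(O, W.1), ψ.app W.1 (a.app W.1 u) = r u := fun u => by
      have hu : u = (show Γ(I₀.subscheme, W.1) from u) • (show Γ(O, W.1) from res one) := by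
        change _ = (show Γ(I₀.subscheme, W.1) from u) * res one
        rw [hone, mul_one]
      conv_lhs => rw [hu, Scheme.Modules.Hom.app_smul, Scheme.Modules.Hom.app_smul]
      change (show Γ(I₀.subscheme, W.1) from u) • ψ.app W.1 (a.app W.1 (res one)) = r u
      rw [show a.app W.1 (res one) = pullRes ι E hW (α.app (V p).1 one) by
        rw [Scheme.Modules.Hom.comp_app, ConcreteCategory.comp_apply]
        exact (congrArg _ hinv).trans hnat, hψ]
      change (show Γ(I₀.subscheme, W.1) from u) • r (res (l p (α.app (V p).1 one))) = r u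
      rw [hlα, hone, ← hrs]
      congr 1
      exact mul_one _
    exact fun u u' huu => hr ((key u).symm.trans ((congrArg _ huu).trans (key u')))
  have hS' : (ShortComplex.mk a b hab).ShortExact :=
    { exact := by
        refine ShortComplex.exact_of_g_is_cokernel _ ?_
        have h1 := CokernelCofork.mapIsColimit _ hS.gIsCokernel (Scheme.Modules.pullback ι)
        exact isCokernelEpiComp h1 (inv (adj.counit.app O)) rfl }
  obtain ⟨r, hr⟩ : ∃ r : (Scheme.Modules.pullback ι).obj E ⟶ O, a ≫ r = 𝟙 O := h a b hab hS'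
  refine ⟨adj.unit.app E ≫ (Scheme.Modules.pushforward ι).map r, ?_⟩
  have h2 : (Scheme.Modules.pullback ι).map α ≫ r = adj.counit.app O := by
    have := congrArg (adj.counit.app O ≫ ·) hr
    simpa [a] using this
  have h3 := adj.unit.naturality α
  rw [← Category.assoc, show α ≫ adj.unit.app E = adj.unit.app (ClSub.quotMod I₀) ≫
    (Scheme.Modules.pushforward ι).map ((Scheme.Modules.pullback ι).map α) from h3, Category.assoc,
    ← Functor.map_comp, h2]
  exact adj.right_triangle_components O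

theorem exists_retraction_descend [HasExt.{u} I₀.subscheme.Modules] {E : X.Modules} [E.IsQuasicoherent]
    (α : ClSub.quotMod I₀ ⟶ E) (β : E ⟶ ClSub.idealMod I₀) (w : α ≫ β = 0)
    (hS : (ShortComplex.mk α β w).ShortExact)
    (hloc : ∀ p : I₀.subscheme, ∃ V : X.affineOpens, I₀.subschemeι p ∈ V.1 ∧
      ∃ l : Γ(E, V.1) →+ Γ(ClSub.quotMod I₀, V.1),
        (∀ (r : Γ(X, V.1)) e, l (r • e) = r • l e) ∧ ∀ q, l (α.app V.1 q) = q)
    (h : Subsingleton (Abelian.Ext.{u} ((Scheme.Modules.pullback I₀.subschemeι).obj (ClSub.idealMod I₀))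
      (Coh.structureModule I₀.subscheme) 1)) :
    ∃ r : E ⟶ ClSub.quotMod I₀, α ≫ r = 𝟙 _ :=
  exists_retraction_descend' I₀ α β w hS hloc fun a b hab hS' => exists_retraction a b hab hS' h

end Groth.Agent.HilbLoc
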