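import Groth.Agent.HilbLoc.Ring
import Mathlib.Algebra.Homology.DerivedCategory.Ext.ExactSequences

/-!
# The obstruction extension: algebraic input and splitting
-/

set_option autoImplicit false
set_option linter.unusedSectionVars false
universe w v u

open IsLocalRing ArtFun Groth.Agent.DefAffHull CategoryTheory CategoryTheory.Limits

namespace Groth.Agent.HilbLoc

section alg

variable {Λ k : Type u} [CommRing Λ] [Field k] [Algebra Λ k]
variable {B₀ : Type u} [CommRing B₀] [Algebra k B₀]
variable {A B : Art Λ k} {R T : Type u} [CommRing R] [CommRing T]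
variable {f : A →+* R} {q : R →+* B₀} {F : B →+* T} {Q : T →+* B₀}

/-- A product of the maximal ideal with the preimage meets `t` only in lifts of the ideal. -/
theorem red_mem_of_mul_mem_maximal_mul {g : B ⟶ A} (hg : Art.IsSmallExt g) {t : B}
    (ht : RingHom.ker g.toAlgHom = Ideal.span {t}) (hT : IsDef B F Q) (hR : IsDef A f q)
    (P : T →+* R) (hP : ∀ x, P (F x) = f (g x)) (hPq : ∀ r, q (P r) = Q r)
    {I₀ : Ideal B₀} {J : Ideal R} (hJ : Good f q I₀ J) {s : T}
    (hs : F t * s ∈ (maximalIdeal B).map F * J.comap P) : Q s ∈ I₀ := by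
  let φ : B →+* R ⧸ J := ((Ideal.Quotient.mk J).comp f).comp g.toAlgHom.toRingHom
  let := F.toAlgebra
  let := φ.toAlgebra
  haveI : Module.Flat B T := RingHom.flat_algebraMap_iff.mp (by
    rw [show algebraMap B T = F from rfl]
    exact hT.flat)
  haveI := Groth.Agent.TFun.free_of_flat (A := B) T
  have hQ := hJ.isDef hR
  let e := Module.Free.chooseBasis k (B₀ ⧸ I₀)
  choose v hv using fun i => hQ.surj (e i)
  have hb := hQ.bijective_lc e hv
  let Θ : (_ →₀ B) →ₗ[B] R ⧸ J := Finsupp.linearCombination B v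
  have hΘ : ∀ c : _ →₀ B, Θ c =
      lc ((Ideal.Quotient.mk J).comp f) v (c.mapRange g.toAlgHom (map_zero _)) := fun c => by
    induction c using Finsupp.induction_linear with
    | zero => simp
    | add a b ha hb => rw [map_add, Finsupp.mapRange_add (map_add g.toAlgHom), map_add, ha, hb]
    | single i a =>
      rw [Finsupp.mapRange_single, lc_single]
      exact (Finsupp.linearCombination_single B a i).trans (Algebra.smul_def a (v i))
  have hΘs : Function.Surjective Θ := fun z => by
    obtain ⟨c, rfl⟩ := hb.2 z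
    obtain ⟨d, rfl⟩ := Finsupp.mapRange_surjective g.toAlgHom (map_zero _) hg.1 c
    exact ⟨d, hΘ d⟩
  let π : T →ₗ[B] R ⧸ J :=
    { toFun := fun y => Ideal.Quotient.mk J (P y)
      map_add' := fun a b => by rw [map_add, map_add]
      map_smul' := fun c y => by
        rw [Algebra.smul_def, show algebraMap B T c = F c from rfl, map_mul, map_mul, hP]
        rfl }
  obtain ⟨θ, hθ⟩ := Module.projective_lifting_property Θ π hΘs
  have hH : ∀ h, h ∈ J.comap P → ∀ i, ∃ b, b * t = θ h i := by
    intro h hh i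
    have h1 : Θ (θ h) = 0 := (LinearMap.congr_fun hθ h).trans (Ideal.Quotient.eq_zero_iff_mem.2 hh)
    rw [hΘ] at h1
    exact ArtFunLib.exists_mul_gen ht (DFunLike.congr_fun (hb.1 (h1.trans (map_zero _).symm)) i)
  have hmt : ∀ a ∈ maximalIdeal B, a * t = 0 := fun a ha => by
    have := (ArtFunLib.mul_gen_eq_iff hg ht a 0).2 (by rw [(Art.mem_maximalIdeal_iff B a).1 ha, map_zero])
    rwa [zero_mul] at this
  have hzero : θ (F t * s) = 0 := by
    refine Submodule.mul_induction_on hs (fun a ha h hh => ?_) fun a b ha hb => by rw [map_add, ha, hb, add_zero]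
    have key : ∀ y ∈ J.comap P, ∀ c ∈ maximalIdeal B, θ (F c * y) = 0 := fun y hy c hc => by
      rw [show F c * y = c • y from (Algebra.smul_def c y).symm, map_smul]
      refine Finsupp.ext fun i => ?_
      obtain ⟨b, hb⟩ := hH y hy i
      rw [Finsupp.smul_apply, smul_eq_mul, ← hb, mul_left_comm, hmt c hc, mul_zero, Finsupp.zero_apply]
    revert h
    refine Submodule.span_induction ?_ ?_ ?_ ?_ ha
    · rintro _ ⟨c, hc, rfl⟩ h hh
      exact key h hh c hc
    · intro h _
      rw [zero_mul, map_zero]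
    · intro a b _ _ ha hb h hh
      rw [add_mul, map_add, ha h hh, hb h hh, add_zero]
    · intro a b _ hb h hh
      rw [smul_eq_mul, mul_comm a, mul_assoc]
      exact hb (a * h) (Ideal.mul_mem_left _ a hh)
  rw [show F t * s = t • s from (Algebra.smul_def t s).symm, map_smul] at hzero
  have hres : ∀ i, B.res (θ s i) = 0 := fun i => by
    have h1 : θ s i * t = 0 * t := by
      rw [zero_mul, mul_comm]
      exact DFunLike.congr_fun hzero i
    exact ((ArtFunLib.mul_gen_eq_iff hg ht _ _).1 h1).trans (map_zero B.res)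
  have h3 : Ideal.quotientMap I₀ q hJ.le_comap (π s) = 0 := by
    rw [← LinearMap.congr_fun hθ s, LinearMap.comp_apply, hΘ, q_lc hQ.comp e hv]
    refine (congrArg (Finsupp.linearCombination k e) ?_).trans (map_zero _)
    refine Finsupp.ext fun i => ?_
    rw [Finsupp.mapRange_apply, Finsupp.mapRange_apply, Finsupp.zero_apply]
    exact (Art.res_app g (θ s i)).trans (hres i)
  change Ideal.quotientMap I₀ q hJ.le_comap (Ideal.Quotient.mk J (P s)) = 0 at h3
  rwa [Ideal.quotientMap_mk, hPq, Ideal.Quotient.eq_zero_iff_mem] at h3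

end alg

section split

variable {C : Type u} [Category.{v} C] [Abelian C] [HasExt.{w} C]

/-- A retraction when `Ext¹` vanishes. -/
theorem exists_retraction {P M N : C} (α : P ⟶ M) (β : M ⟶ N) (w : α ≫ β = 0)
    (hS : (ShortComplex.mk α β w).ShortExact) (h : Subsingleton (Abelian.Ext N P 1)) :
    ∃ r : M ⟶ P, α ≫ r = 𝟙 P := by
  obtain ⟨x, hx⟩ := Abelian.Ext.contravariant_sequence_exact₁ hS P
    (Abelian.Ext.mk₀ (𝟙 P)) (show 1 + 0 = 1 from rfl) (Subsingleton.elim _ _)
  obtain ⟨r, rfl⟩ := (Abelian.Ext.mk₀_bijective M P).2 x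
  exact ⟨r, (Abelian.Ext.mk₀_bijective P P).1 ((Abelian.Ext.mk₀_comp_mk₀ α r).symm.trans hx)⟩

end split

end Groth.Agent.HilbLoc
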