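import Groth.Agent.HilbLoc.Conditions
import Groth.Agent.HilbLoc.ModData

/-!
# No maps from the ideal to the quotient: lifts are unique
-/

set_option autoImplicit false
set_option linter.unusedSectionVars false
universe u

open CategoryTheory CategoryTheory.Limits AlgebraicGeometry IsLocalRing ArtFun TopologicalSpace
open Groth.Agent.DefGlue

namespace Groth.Agent.HilbLoc

section alg

variable {Λ k : Type u} [CommRing Λ] [Field k] [Algebra Λ k]
variable {B₀ : Type u} [CommRing B₀] [Algebra k B₀]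
variable {A : Art Λ k} {R : Type u} [CommRing R] {f : A →+* R} {q : R →+* B₀} {I₀ : Ideal B₀} {J : Ideal R}

theorem Good.mem_map_mul (h : Good f q I₀ J) (hR : DefAffHull.IsDef A f q) {r : R} (hr : r ∈ J)
    (hq : q r = 0) : r ∈ (maximalIdeal A).map f * J := by
  let := f.toAlgebra
  haveI : Module.Flat A (R ⧸ J) := by
    refine RingHom.flat_algebraMap_iff.mp ?_
    rw [show algebraMap A (R ⧸ J) = (Ideal.Quotient.mk J).comp f from rfl]
    exact h.flat
  haveI := Groth.Agent.TFun.free_of_flat (A := A) (R ⧸ J)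
  let π : R →ₗ[A] R ⧸ J := (Ideal.Quotient.mkₐ A J).toLinearMap
  obtain ⟨s, hs⟩ := Module.projective_lifting_property π LinearMap.id Ideal.Quotient.mk_surjective
  let P : R →ₗ[A] R := LinearMap.id - s.comp π
  have hPJ : ∀ y, P y ∈ J := fun y => by
    rw [← Ideal.Quotient.eq_zero_iff_mem]
    change π (y - s (π y)) = 0
    rw [map_sub, show π (s (π y)) = π y from LinearMap.congr_fun hs (π y), sub_self]
  have hPr : P r = r := by
    have h0 : π r = 0 := Ideal.Quotient.eq_zero_iff_mem.2 hr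
    rw [LinearMap.sub_apply, LinearMap.comp_apply, h0, map_zero, sub_zero]
    rfl
  have h1 : r ∈ maximalIdeal A • (⊤ : Submodule A R) := by
    rw [Ideal.smul_top_eq_map]
    exact hR.ker_le hq
  rw [← hPr]
  refine Submodule.smul_induction_on h1 (fun a ha y _ => ?_) fun a b ha hb => ?_
  · rw [map_smul, Algebra.smul_def]
    exact Ideal.mul_mem_mul (Ideal.mem_map_of_mem f ha) (hPJ y)
  · rw [map_add]
    exact add_mem ha hb

end alg

variable {k : Type u} [Field k] {X : Scheme.{u}} (x : X ⟶ Spec (CommRingCat.of k)) (I₀ : X.IdealSheafData)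
variable {A B : Art k k}

theorem mem_ker_bc {g : A ⟶ B} {t : A} (ht : RingHom.ker g.toAlgHom = Ideal.span {t}) (W : X.affineOpens)
    {s : S x A W.1} : bc x g W.1 s = 0 ↔ ∃ u, s = str x A W.1 t * u := by
  let := (sHom x W.1).toAlgebra
  rw [← RingHom.mem_ker, ker_hom (isDef x A W.1 W.2) (isDef x B W.1 W.2) (bc x g W.1) (bc_str x g W.1)
    (red_bc x g W.1), show RingHom.ker g.toAlgHom.toRingHom = Ideal.span {t} from ht, Ideal.map_span,
    Set.image_singleton, Ideal.mem_span_singleton]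
  exact ⟨fun ⟨u, hu⟩ => ⟨u, hu⟩, fun ⟨u, hu⟩ => ⟨u, hu⟩⟩

theorem surjective_bc {g : A ⟶ B} (hg : Function.Surjective g) (W : X.affineOpens) :
    Function.Surjective (bc x g W.1) := by
  let := (sHom x W.1).toAlgebra
  exact surjective_hom (isDef x A W.1 W.2) (isDef x B W.1 W.2) hg (bc x g W.1) (bc_str x g W.1)
    (red_bc x g W.1)

variable (A) in
theorem mem_maximal_of_red_eq_zero (W : X.affineOpens) {s : S x A W.1} (hs : red x A W.1 s = 0) :
    s ∈ (maximalIdeal A).map (str x A W.1) := by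
  let := (sHom x W.1).toAlgebra
  exact (isDef x A W.1 W.2).ker_le hs

theorem str_mul_eq_zero {t : A} (ht : ∀ m ∈ maximalIdeal A, m * t = 0) (W : X.affineOpens) {s : S x A W.1}
    (hs : red x A W.1 s = 0) : str x A W.1 t * s = 0 := by
  refine Submodule.span_induction ?_ (mul_zero _) (fun a b _ _ ha hb => by rw [mul_add, ha, hb, add_zero])
    (fun a b _ hb => by rw [smul_eq_mul, mul_left_comm, hb, mul_zero]) (mem_maximal_of_red_eq_zero x A W hs)
  rintro _ ⟨m, hm, rfl⟩
  rw [← map_mul, mul_comm, ht m hm, map_zero]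

theorem injective_map_of_bijective (g : A ⟶ B) (hg : Function.Bijective g) :
    Function.Injective ((localHilb X x I₀).map g) := fun z z' h => obj_ext x I₀ fun W => by
  let := (sHom x W.1).toAlgebra
  have hinj : Function.Injective (bc x g W.1) := by
    rw [injective_iff_map_eq_zero]
    intro s hs
    have h1 : s ∈ RingHom.ker (bc x g W.1) := hs
    rw [ker_hom (isDef x A W.1 W.2) (isDef x B W.1 W.2) (bc x g W.1) (bc_str x g W.1) (red_bc x g W.1),
      (RingHom.injective_iff_ker_eq_bot g.toAlgHom.toRingHom).1 hg.1, Ideal.map_bot, Ideal.mem_bot] at h1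
    exact h1
  have h2 := congrArg (fun y : (localHilb X x I₀).obj B => fam x y.1 W) h
  simp only [fam_obj_map] at h2
  have h3 := congrArg (Ideal.comap (bc x g W.1)) h2
  rwa [Ideal.comap_map_of_bijective _ ⟨hinj, surjective_bc x hg.2 W⟩,
    Ideal.comap_map_of_bijective _ ⟨hinj, surjective_bc x hg.2 W⟩] at h3

/-- The graph of the difference of two lifts. -/
def IsDiff (J J' : (Art.XA x A).IdealSheafData) (t : A) (W : X.affineOpens) (i : Γ(X, W.1))
    (b : Γ(ClSub.quotMod I₀, W.1)) : Prop :=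
  ∃ j ∈ fam x J W, ∃ j' ∈ fam x J' W, ∃ u : S x A W.1, red x A W.1 j = i ∧
    j' - j = str x A W.1 t * u ∧ b = qcl I₀ W.1 (red x A W.1 u)

theorem injective_map_step (h0 : Subsingleton (ClSub.idealMod I₀ ⟶ ClSub.quotMod I₀))
    {g : A ⟶ B} (hg : Art.IsSmallExt g) : Function.Injective ((localHilb X x I₀).map g) := by
  intro z z' hz
  obtain ⟨t, ht⟩ := ArtFunLib.exists_gen hg
  have htm : ∀ a ∈ maximalIdeal A, a * t = 0 := fun a ha => by
    have := (ArtFunLib.mul_gen_eq_iff hg ht a 0).2 (by rw [(Art.mem_maximalIdeal_iff A a).1 ha, map_zero])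
    rwa [zero_mul] at this
  have htne : t ≠ 0 := fun h => hg.2.1 (by rw [ht, Ideal.span_singleton_eq_bot]; exact h)
  have hsame : ∀ W, (fam x z.1 W).map (bc x g W.1) = (fam x z'.1 W).map (bc x g W.1) := fun W => by
    rw [← fam_obj_map, ← fam_obj_map, hz]
  have hlift : ∀ W : X.affineOpens, ∀ j ∈ fam x z.1 W, ∃ j' ∈ fam x z'.1 W, ∃ u, j' - j = str x A W.1 t * u := by
    intro W j hj
    obtain ⟨j', hj', he⟩ := (Ideal.mem_map_iff_of_surjective _ (surjective_bc x hg.1 W)).1
      ((hsame W).le (Ideal.mem_map_of_mem _ hj))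
    exact ⟨j', hj', (mem_ker_bc x ht W).1 (by rw [map_sub, he, sub_self])⟩
  have hzero : ∀ W : X.affineOpens, ∀ b, IsDiff x I₀ z.1 z'.1 t W 0 b → b = 0 := by
    rintro W b ⟨j, hj, j', hj', u, hj0, hju, rfl⟩
    let := (sHom x W.1).toAlgebra
    have hmem : j ∈ fam x z'.1 W := by
      refine (Ideal.mul_le.2 fun a ha y hy => ?_) ((goodAt_fam x I₀ z W).mem_map_mul (isDef x A W.1 W.2) hj hj0)
      obtain ⟨y', hy', v, hv⟩ := hlift W y hy
      have : a * y = a * y' := by
        rw [show y' = y + str x A W.1 t * v by rw [← hv, add_sub_cancel], mul_add]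
        refine (left_eq_add.2 ?_)
        rw [← mul_assoc, mul_comm a]
        refine mul_eq_zero_of_left ?_ _
        refine str_mul_eq_zero x (A := A) htm W ?_
        refine (Ideal.map_le_iff_le_comap.2 (fun c hc => ?_) : (maximalIdeal A).map (str x A W.1) ≤
          RingHom.ker (red x A W.1)) ha
        rw [Ideal.mem_comap, RingHom.mem_ker, red_str, (Art.mem_maximalIdeal_iff A c).1 hc, map_zero]
      rw [this]
      exact Ideal.mul_mem_left _ _ hy'
    refine (qcl_eq_zero I₀ W _).2 ((goodAt_fam x I₀ z' W).mem_of_mul_mem (isDef x A W.1 W.2) htne ?_)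
    rw [← hju]
    exact sub_mem hj' hmem
  have hex : ∀ W : X.affineOpens, ∀ i ∈ I₀.ideal W, ∃ b, IsDiff x I₀ z.1 z'.1 t W i b := by
    intro W i hi
    let := (sHom x W.1).toAlgebra
    obtain ⟨j, hj, hji⟩ := (goodAt_fam x I₀ z W).exists_lift (isDef x A W.1 W.2) hi
    obtain ⟨j', hj', u, hu⟩ := hlift W j hj
    exact ⟨_, j, hj, j', hj', u, hji, hu, rfl⟩
  have hadd : ∀ W i i' b b', IsDiff x I₀ z.1 z'.1 t W i b → IsDiff x I₀ z.1 z'.1 t W i' b' →
      IsDiff x I₀ z.1 z'.1 t W (i + i') (b + b') := by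
    rintro W _ _ _ _ ⟨j, hj, j', hj', u, rfl, hu, rfl⟩ ⟨m, hm, m', hm', v, rfl, hv, rfl⟩
    exact ⟨j + m, add_mem hj hm, j' + m', add_mem hj' hm', u + v, map_add _ _ _, by rw [mul_add, ← hu, ← hv]; ring,
      by rw [map_add, map_add]⟩
  have hneg : ∀ W i b, IsDiff x I₀ z.1 z'.1 t W i b → IsDiff x I₀ z.1 z'.1 t W (-i) (-b) := by
    rintro W _ _ ⟨j, hj, j', hj', u, rfl, hu, rfl⟩
    exact ⟨-j, neg_mem hj, -j', neg_mem hj', -u, map_neg _ _, by rw [mul_neg, ← hu]; ring,
      by rw [map_neg, map_neg]⟩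
  have hmul : ∀ W i b r, IsDiff x I₀ z.1 z'.1 t W i b → IsDiff x I₀ z.1 z'.1 t W (r * i) (r • b) := by
    rintro W _ _ r ⟨j, hj, j', hj', u, rfl, hu, rfl⟩
    refine ⟨cst x A W.1 r * j, Ideal.mul_mem_left _ _ hj, cst x A W.1 r * j', Ideal.mul_mem_left _ _ hj',
      cst x A W.1 r * u, by rw [map_mul, red_cst], ?_, ?_⟩
    · rw [← mul_sub, hu]; ring
    · rw [map_mul, red_cst, qcl_smul]
  have huniq : ∀ W i b b', IsDiff x I₀ z.1 z'.1 t W i b → IsDiff x I₀ z.1 z'.1 t W i b' → b = b' :=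
    fun W i b b' h h' => by
      have := hzero W _ (by rw [← add_neg_cancel i]; exact hadd W _ _ _ _ h (hneg W _ _ h'))
      rwa [← sub_eq_add_neg, sub_eq_zero] at this
  choose b hb using fun (W : X.affineOpens) (m : Γ(ClSub.idealMod I₀, W.1)) =>
    hex W _ (ConormalSection.idealSect_mem I₀ W m)
  obtain ⟨φ, hφ⟩ := exists_hom_of_affine (M := ClSub.idealMod I₀) (N := ClSub.quotMod I₀)
    (fun W => AddMonoidHom.mk' (b W) fun m m' => huniq W _ _ _ (hb W _) (by
      rw [map_add]; exact hadd W _ _ _ _ (hb W m) (hb W m')))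
    (fun W r m => huniq W _ _ _ (hb W _) (by
      rw [ConormalSection.idealSect_smul]; exact hmul W _ _ r (hb W m)))
    (fun W W' h m => by
      obtain ⟨j, hj, j', hj', u, hji, hu, hbu⟩ := hb W m
      refine huniq W' _ _ _ ?_ (hb W' _)
      rw [idealSect_map]
      refine ⟨rs x A h j, ?_, rs x A h j', ?_, rs x A h u, by rw [red_rs, hji], ?_, ?_⟩
      · exact fam_map x z.1 h ▸ Ideal.mem_map_of_mem _ hj
      · exact fam_map x z'.1 h ▸ Ideal.mem_map_of_mem _ hj'
      · rw [← map_sub, hu, map_mul, rs_str]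
      · change (ClSub.quotMod I₀).presheaf.map _ (b W m) = _
        rw [hbu, qcl_map, red_rs])
  refine obj_ext x I₀ fun W => ?_
  let := (sHom x W.1).toAlgebra
  refine (goodAt_fam x I₀ z W).eq_of_le (isDef x A W.1 W.2) (goodAt_fam x I₀ z' W) fun j hj => ?_
  obtain ⟨m, hm⟩ := ConormalSection.exists_idealSect_eq I₀ W (red x A W.1 j) ((goodAt_fam x I₀ z W).le_comap hj)
  obtain ⟨j', hj', u, hu⟩ := hlift W j hj
  have h1 : qcl I₀ W.1 (red x A W.1 u) = 0 := by
    refine (huniq W _ _ _ ⟨j, hj, j', hj', u, hm.symm, hu, rfl⟩ (hb W m)).trans ?_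
    have := hφ W m
    rw [Subsingleton.elim φ 0] at this
    exact this.symm
  obtain ⟨i', hi', hii⟩ := (goodAt_fam x I₀ z' W).exists_lift (isDef x A W.1 W.2) ((qcl_eq_zero I₀ W _).1 h1)
  have h2 : str x A W.1 t * (u - i') = 0 :=
    str_mul_eq_zero x (A := A) htm W (by rw [map_sub, hii, sub_self])
  have h3 : j = j' - str x A W.1 t * i' := by
    rw [mul_sub, sub_eq_zero, ← hu] at h2
    rw [← h2]; ring
  rw [h3]
  exact sub_mem hj' (Ideal.mul_mem_left _ _ hi')

theorem injective_map (h0 : Subsingleton (ClSub.idealMod I₀ ⟶ ClSub.quotMod I₀))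
    (g : A ⟶ B) (hg : Function.Surjective g) : Function.Injective ((localHilb X x I₀).map g) := by
  refine ArtFunLib.surj_induction (P := fun _ _ g => Function.Injective ((localHilb X x I₀).map g))
    (fun _ _ e he => injective_map_of_bijective x I₀ e he) (fun _ _ _ q s _ hs hq => ?_) g hg
  rw [Functor.map_comp]
  exact (injective_map_step x I₀ h0 hs).comp hq

end Groth.Agent.HilbLoc
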