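import Groth.Agent.HilbLoc.Injective
import Groth.Agent.InvBasic.QCoh
import Mathlib.AlgebraicGeometry.Morphisms.Affine

/-!
# Ideal sheaves on `X ×_k Spec A` as modules on `X`
-/

set_option autoImplicit false
set_option linter.unusedSectionVars false
set_option backward.isDefEq.respectTransparency false
universe u

open CategoryTheory CategoryTheory.Limits AlgebraicGeometry IsLocalRing ArtFun TopologicalSpace
open Groth.Agent.DefGlue

namespace Groth.Agent.HilbLoc

variable {k : Type u} [Field k] {X : Scheme.{u}} (x : X ⟶ Spec (CommRingCat.of k)) {A : Art k k}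
variable (K : (Art.XA x A).IdealSheafData)

/-- The module on `X`. -/
noncomputable def pmod : X.Modules := (Scheme.Modules.pushforward (pr x A)).obj (ClSub.idealMod K)

theorem isQuasicoherent_pmod : (pmod x K).IsQuasicoherent := by
  haveI : IsAffineHom (pr x A) := MorphismProperty.pullback_fst (P := @IsAffineHom) _ _ inferInstance
  haveI := ConormalSection.isQuasicoherent_idealMod K
  exact QCohLib.isQuasicoherent_pushforward (M := ClSub.idealMod K) (pr x A)

/-- A section as a function. -/
noncomputable def psect (W : X.Opens) : Γ(pmod x K, W) →+ S x A W :=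
  ((ClSub.idealModι K).app (opn x A W)).hom

theorem psect_eq (W : X.Opens) (m : Γ(pmod x K, W)) :
    psect x K W m = OmegaSh.idealSect K (opn x A W) m := rfl

theorem psect_injective (W : X.Opens) : Function.Injective (psect x K W) :=
  ConormalSection.idealSect_injective K (opn x A W)

theorem psect_mem (W : X.affineOpens) (m : Γ(pmod x K, W.1)) : psect x K W.1 m ∈ fam x K W :=
  ConormalSection.idealSect_mem K (aff x W) m

theorem exists_psect_eq (W : X.affineOpens) {a : S x A W.1} (ha : a ∈ fam x K W) :
    ∃ m, psect x K W.1 m = a :=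
  ConormalSection.exists_idealSect_eq K (aff x W) a ha

theorem psect_smul (W : X.Opens) (r : Γ(X, W)) (m : Γ(pmod x K, W)) :
    psect x K W (r • m) = cst x A W r * psect x K W m :=
  ConormalSection.idealSect_smul K (opn x A W) ((pr x A).app W r) m

theorem psect_map {W W' : X.Opens} (h : W' ≤ W) (m : Γ(pmod x K, W)) :
    psect x K W' ((pmod x K).presheaf.map (homOfLE h).op m) = rs x A h (psect x K W m) :=
  idealSect_map K ((pr x A).preimage_mono h) m

variable {x K}

theorem exists_pmod_incl {K' : (Art.XA x A).IdealSheafData} (h : ∀ W, fam x K' W ≤ fam x K W) :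
    ∃ ι : pmod x K' ⟶ pmod x K, ∀ (W : X.affineOpens) m, psect x K W.1 (ι.app W.1 m) = psect x K' W.1 m := by
  choose f hf using fun (W : X.affineOpens) m => exists_psect_eq x K W (h W (psect_mem x K' W m))
  obtain ⟨ι, hι⟩ := exists_hom_of_affine (M := pmod x K') (N := pmod x K)
    (fun W => AddMonoidHom.mk' (f W) fun a b => psect_injective x K W.1 (by
      rw [map_add, hf, hf, hf, map_add]))
    (fun W r m => psect_injective x K W.1 (by
      change psect x K W.1 (f W (r • m)) = psect x K W.1 (r • f W m)
      rw [hf, psect_smul, psect_smul, hf]))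
    (fun W W' h' m => psect_injective x K W'.1 (by
      change psect x K W'.1 ((pmod x K).presheaf.map _ (f W m)) = psect x K W'.1 (f W' _)
      rw [psect_map, hf, hf, psect_map]))
  exact ⟨ι, fun W m => by rw [hι]; exact hf W m⟩

end Groth.Agent.HilbLoc
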