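import Groth.Agent.HilbLoc.Smooth
import Groth.Prelude.Def_CAlgX

/-!
# Local splittings of the obstruction extension for regular sequences
-/

set_option autoImplicit false
set_option linter.unusedSectionVars false
set_option backward.isDefEq.respectTransparency false
universe u

open CategoryTheory CategoryTheory.Limits AlgebraicGeometry IsLocalRing ArtFun TopologicalSpace
open Groth.Agent.DefGlue

namespace Groth.Agent.HilbLoc

variable {k : Type u} [Field k] {X : Scheme.{u}} (x : X ⟶ Spec (CommRingCat.of k)) (I₀ : X.IdealSheafData)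
variable {A B : Art k k} {g : B ⟶ A} {t : B} {H H' : (Art.XA x B).IdealSheafData}
variable (z : (localHilb X x I₀).obj A)

theorem exists_local_retraction (hD : ObsData x I₀ z g t H H') (hg : Art.IsSmallExt g)
    {E : X.Modules} [E.IsQuasicoherent] (α : ClSub.quotMod I₀ ⟶ E) (β : E ⟶ ClSub.idealMod I₀) (w : α ≫ β = 0)
    (hS : (ShortComplex.mk α β w).ShortExact) (c : pmod x H ⟶ E)
    (h0 : ∀ (W : X.affineOpens) m, c.app W.1 m = 0 ↔ psect x H W.1 m ∈ fam x H' W)
    (hβ : ∀ (W : X.affineOpens) m,
        OmegaSh.idealSect I₀ W.1 (β.app W.1 (c.app W.1 m)) = red x B W.1 (psect x H W.1 m))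
    (V : X.affineOpens) {n : ℕ} (f : Fin n → Γ(X, V.1)) (hf : I₀.ideal V = Ideal.span (Set.range f))
    (hreg : CAlgX.IsH1Regular f) :
    ∃ l : Γ(E, V.1) →+ Γ(ClSub.quotMod I₀, V.1),
      (∀ (r : Γ(X, V.1)) e, l (r • e) = r • l e) ∧ ∀ q, l (α.app V.1 q) = q := by
  haveI := InvBasic.isQuasicoherent_structureModule I₀.subscheme
  haveI := QCohLib.isQuasicoherent_pushforward (M := Coh.structureModule I₀.subscheme) I₀.subschemeι
  haveI : (ClSub.quotMod I₀).IsQuasicoherent := by assumption
  haveI : Mono α := hS.mono_f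
  have hinj : Function.Injective (α.app V.1) := (QCohLib.mono_iff_app_injective α).1 inferInstance V.1
  have hm : ∀ a, ∃ m : Γ(pmod x H, V.1), red x B V.1 (psect x H V.1 m) = f a := fun a => by
    let := (sHom x V.1).toAlgebra
    obtain ⟨j, hj, hja⟩ := (goodAt_fam x I₀ z V).exists_lift (isDef x A V.1 V.2)
      (hf ▸ Ideal.subset_span ⟨a, rfl⟩ : f a ∈ I₀.ideal V)
    obtain ⟨s, rfl⟩ := surjective_bc x hg.1 V j
    obtain ⟨m, hm⟩ := exists_psect_eq x H V (a := s) (by rw [hD.fam_top]; exact hj)
    exact ⟨m, by rw [hm, ← red_bc x g V.1, hja]⟩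
  choose m hm using hm
  let e := fun a => c.app V.1 (m a)
  have hcomm : ∀ a b, f a • e b = f b • e a := fun a b => by
    rw [← sub_eq_zero, ← Scheme.Modules.Hom.app_smul, ← Scheme.Modules.Hom.app_smul, ← map_sub, h0, map_sub,
      psect_smul, psect_smul, hD.fam_rel]
    refine Submodule.mem_sup_left ?_
    have h1 : cst x B V.1 (f a) * psect x H V.1 (m b) - cst x B V.1 (f b) * psect x H V.1 (m a) =
        (cst x B V.1 (f a) - psect x H V.1 (m a)) * psect x H V.1 (m b) -
        (cst x B V.1 (f b) - psect x H V.1 (m b)) * psect x H V.1 (m a) := by ring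
    rw [h1]
    refine sub_mem (Ideal.mul_mem_mul ?_ (psect_mem x H V _)) (Ideal.mul_mem_mul ?_ (psect_mem x H V _))
    · exact mem_maximal_of_red_eq_zero x B V (by rw [map_sub, red_cst, hm, sub_self])
    · exact mem_maximal_of_red_eq_zero x B V (by rw [map_sub, red_cst, hm, sub_self])
  have hrel : ∀ d : Fin n → Γ(X, V.1), ∑ a, d a * f a = 0 → ∑ a, d a • e a = 0 := by
    intro d hd
    refine Submodule.span_induction (p := fun u _ => ∑ a, u a • e a = 0) ?_ (by simp)
      (fun u v _ _ h1 h2 => by simp only [Pi.add_apply, add_smul, Finset.sum_add_distrib, h1, h2, add_zero])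
      (fun r u _ h1 => by simp only [Pi.smul_apply, smul_assoc, ← Finset.smul_sum, h1, smul_zero])
      (hreg d hd)
    rintro _ ⟨a, b, rfl⟩
    simp only [Pi.sub_apply, sub_smul, Finset.sum_sub_distrib]
    rw [Finset.sum_eq_single a (fun c _ hc => by rw [Pi.single_eq_of_ne hc, zero_smul]) (by simp),
      Finset.sum_eq_single b (fun c _ hc => by rw [Pi.single_eq_of_ne hc, zero_smul]) (by simp),
      Pi.single_eq_same, Pi.single_eq_same, hcomm, sub_self]
  have hdec : ∀ y : Γ(E, V.1), ∃ q, ∃ d : Fin n → Γ(X, V.1), α.app V.1 q + ∑ a, d a • e a = y := by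
    intro y
    have hy := ConormalSection.idealSect_mem I₀ V (β.app V.1 y)
    rw [hf, Ideal.mem_span_range_iff_exists_fun] at hy
    obtain ⟨d, hd⟩ := hy
    have h1 : β.app V.1 (y - ∑ a, d a • e a) = 0 := by
      refine ConormalSection.idealSect_injective I₀ V.1 ?_
      rw [map_sub, map_sum, map_sub, map_sum, ← hd, (map_zero (OmegaSh.idealSect I₀ V.1) : _ = _), sub_eq_zero]
      refine Finset.sum_congr rfl fun a _ => ?_
      rw [Scheme.Modules.Hom.app_smul, ConormalSection.idealSect_smul, hβ, hm]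
    obtain ⟨q, hq⟩ := exists_preimage_of_app_eq_zero α β w hS.exact V h1
    exact ⟨q, d, by rw [hq, sub_add_cancel]⟩
  have huniq : ∀ q (d : Fin n → Γ(X, V.1)), α.app V.1 q + ∑ a, d a • e a = 0 → q = 0 := by
    intro q d h
    have h1 : β.app V.1 (α.app V.1 q) = 0 := by
      rw [← ConcreteCategory.comp_apply, ← Scheme.Modules.Hom.comp_app, w]
      rfl
    have h2 := congrArg (fun y => OmegaSh.idealSect I₀ V.1 (β.app V.1 y)) h
    simp only [map_add, map_sum, map_zero, h1, zero_add] at h2
    have h3 : ∑ a, d a * f a = 0 := by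
      refine (Finset.sum_congr rfl fun a _ => ?_).trans h2
      rw [Scheme.Modules.Hom.app_smul, ConormalSection.idealSect_smul, hβ, hm]
    rw [hrel d h3, add_zero] at h
    exact hinj (h.trans (map_zero _).symm)
  choose q d hqd using hdec
  have hu : ∀ y q' (d' : Fin n → Γ(X, V.1)), α.app V.1 q' + ∑ a, d' a • e a = y → q y = q' := fun y q' d' h => by
    rw [← sub_eq_zero]
    refine huniq _ (fun a => d y a - d' a) ?_
    simp only [map_sub, sub_smul, Finset.sum_sub_distrib]
    rw [sub_add_sub_comm, hqd, h, sub_self]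
  refine ⟨AddMonoidHom.mk' q fun y y' => hu _ _ (fun a => d y a + d y' a) (by
      simp only [map_add, add_smul, Finset.sum_add_distrib]
      rw [add_add_add_comm, hqd, hqd]), fun r y => hu _ _ (fun a => r * d y a) (by
      simp only [AddMonoidHom.mk'_apply, Scheme.Modules.Hom.app_smul, mul_smul, ← Finset.smul_sum]
      rw [← smul_add, hqd]), fun q' => hu _ q' 0 (by simp)⟩

end Groth.Agent.HilbLoc
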