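import Groth.Agent.HilbLoc.Smooth
import Groth.Prelude.Def_ArtFun2

/-!
# Smoothness of the local Hilbert functor when `Ext¹(I, O/I)` vanishes
-/

set_option autoImplicit false
set_option linter.unusedSectionVars false
set_option backward.isDefEq.respectTransparency false
universe w u

open CategoryTheory CategoryTheory.Limits AlgebraicGeometry IsLocalRing ArtFun TopologicalSpace
open Groth.Agent.DefGlue

namespace Groth.Agent.HilbLoc

variable {k : Type u} [Field k] {X : Scheme.{u}} (x : X ⟶ Spec (CommRingCat.of k)) (I₀ : X.IdealSheafData)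
variable {A B : Art k k} {g : B ⟶ A} {H H' : (Art.XA x B).IdealSheafData} {t : B}

theorem exists_lift_of_splitting (z : (localHilb X x I₀).obj A) (hD : ObsData x I₀ z g t H H')
    (hg : Art.IsSmallExt g) (ht : RingHom.ker g.toAlgHom = Ideal.span {t})
    (φ : pmod x H ⟶ ClSub.quotMod I₀)
    (hφ0 : ∀ (W : X.affineOpens) m, psect x H W.1 m ∈ fam x H' W → φ.app W.1 m = 0)
    (hφt : ∀ (W : X.affineOpens) (r : Γ(X, W.1)) m, psect x H W.1 m = str x B W.1 t * cst x B W.1 r →
        φ.app W.1 m = qcl I₀ W.1 r) :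
    ∃ z', (localHilb X x I₀).map g z' = z := by
  have hgt : g t = 0 := by
    have : t ∈ RingHom.ker g.toAlgHom := ht ▸ Ideal.mem_span_singleton_self t
    exact this
  let K : ∀ W : X.affineOpens, Ideal (S x B W.1) := fun W =>
    { carrier := {s | ∃ m, psect x H W.1 m = s ∧ φ.app W.1 m = 0}
      zero_mem' := ⟨0, map_zero _, map_zero _⟩
      add_mem' := by
        rintro _ _ ⟨m, rfl, hm⟩ ⟨n, rfl, hn⟩
        exact ⟨m + n, map_add _ _ _, by rw [map_add, hm, hn, add_zero]⟩
      smul_mem' := by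
        rintro a _ ⟨m, rfl, hm⟩
        have he : (a - cst x B W.1 (red x B W.1 a)) * psect x H W.1 m ∈ fam x H' W := by
          rw [hD.fam_rel]
          exact Submodule.mem_sup_left (Ideal.mul_mem_mul
            (mem_maximal_of_red_eq_zero x B W (by rw [map_sub, red_cst, sub_self])) (psect_mem x H W m))
        obtain ⟨n, hn⟩ := exists_psect_eq x H W (hD.rel_le hgt W he)
        refine ⟨n + red x B W.1 a • m, ?_, ?_⟩
        · rw [map_add, hn, psect_smul, smul_eq_mul]
          ring
        · rw [map_add, hφ0 W n (hn ▸ he), Scheme.Modules.Hom.app_smul, hm, smul_zero, add_zero] }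
  have hKle : ∀ W, K W ≤ fam x H W := by
    rintro W _ ⟨m, rfl, -⟩
    exact psect_mem x H W m
  have hKmem : ∀ (W : X.affineOpens) m, psect x H W.1 m ∈ K W → φ.app W.1 m = 0 := by
    rintro W m ⟨n, hn, hn0⟩
    rwa [← psect_injective x H W.1 hn]
  have hgood : ∀ W : X.affineOpens, GoodAt x I₀ W (K W) ∧ (K W).map (bc x g W.1) = fam x z.1 W := by
    intro W
    let := (sHom x W.1).toAlgebra
    have hmap : (K W).map (bc x g W.1) = fam x z.1 W := by
      refine le_antisymm (Ideal.map_le_iff_le_comap.2 fun s hs => ?_) fun j hj => ?_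
      · rw [← hD.fam_top]
        exact hKle W hs
      · obtain ⟨s, rfl⟩ := surjective_bc x hg.1 W j
        obtain ⟨m, hm⟩ := exists_psect_eq x H W (a := s) (by rw [hD.fam_top]; exact hj)
        obtain ⟨r, hr⟩ := qcl_surjective I₀ W (φ.app W.1 m)
        obtain ⟨n, hn⟩ := exists_psect_eq x H W (hD.str_mul_mem hgt W (cst x B W.1 r))
        have hk : psect x H W.1 (m - n) ∈ K W := ⟨m - n, rfl, by rw [map_sub, hφt W r n hn, hr, sub_self]⟩
        have h1 := Ideal.mem_map_of_mem (bc x g W.1) hk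
        rwa [map_sub (psect x H W.1), hm, hn, map_sub, map_mul, bc_str, hgt, map_zero, zero_mul, sub_zero] at h1
    refine ⟨good_of_smallExt hg ht (isDef x B W.1 W.2) (isDef x A W.1 W.2) (bc x g W.1) (bc_str x g W.1)
      (red_bc x g W.1) (goodAt_fam x I₀ z W) hmap (fun s hs => ?_) (fun s hs => ?_), hmap⟩
    · obtain ⟨m, hm⟩ := exists_psect_eq x H W (hD.str_mul_mem hgt W (cst x B W.1 (red x B W.1 s)))
      have h2 : str x B W.1 t * (s - cst x B W.1 (red x B W.1 s)) = 0 :=
        str_mul_eq_zero x (mul_gen_zero hg ht) W (by rw [map_sub, red_cst, sub_self])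
      rw [mul_sub, sub_eq_zero] at h2
      rw [h2]
      exact ⟨m, hm, by rw [hφt W _ m hm, qcl_eq_zero]; exact hs⟩
    · have h2 : str x B W.1 t * (s - cst x B W.1 (red x B W.1 s)) = 0 :=
        str_mul_eq_zero x (mul_gen_zero hg ht) W (by rw [map_sub, red_cst, sub_self])
      rw [mul_sub, sub_eq_zero] at h2
      rw [h2] at hs
      obtain ⟨m, hm, hm0⟩ := hs
      rw [← qcl_eq_zero, ← hφt W _ m hm]
      exact hm0
  obtain ⟨z', hz'⟩ := exists_obj x I₀ K (fun W W' r e => by
    have he := e.le.trans (X.basicOpen_le r)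
    refine le_antisymm (Ideal.map_le_iff_le_comap.2 ?_) fun s hs => ?_
    · rintro _ ⟨m, rfl, hm⟩
      exact ⟨(pmod x H).presheaf.map (homOfLE he).op m, psect_map x H he m,
        by rw [QCohLib.app_map, hm, map_zero]⟩
    · obtain ⟨m, rfl, hm⟩ := hs
      have hH : psect x H W'.1 m ∈ (fam x H W).map (rs x B he) :=
        (fam_map x H he).ge (psect_mem x H W' m)
      obtain ⟨n, s₀, hn⟩ := exists_rs_eq x B W.2 r e (psect x H W'.1 m)
      obtain ⟨a, ha⟩ := exists_pow_mul_mem x B W.2 r e (fam x H W) s₀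
        (hn ▸ Ideal.mul_mem_right _ _ hH)
      obtain ⟨m₁, hm₁⟩ := exists_psect_eq x H W ha
      obtain ⟨q, hq⟩ := qcl_surjective I₀ W (φ.app W.1 m₁)
      let u := X.presheaf.map (homOfLE he).op r
      have hm₁' : (pmod x H).presheaf.map (homOfLE he).op m₁ = u ^ (a + n) • m := psect_injective x H W'.1 (by
        rw [psect_map, hm₁, map_mul, map_pow, rs_cst, ← hn, psect_smul, map_pow, rs_cst, pow_add]
        ring)
      have h0 : X.presheaf.map (homOfLE he).op q ∈ I₀.ideal W' := by
        rw [← qcl_eq_zero, ← qcl_map, hq, ← QCohLib.app_map, hm₁', Scheme.Modules.Hom.app_smul, hm, smul_zero]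
      rw [← I₀.map_ideal (U := W') (V := W) he] at h0
      obtain ⟨b, hb⟩ : ∃ b, r ^ b * q ∈ I₀.ideal W := by
        have : ∀ {V : X.Opens} (hV : V ≤ W.1), V = X.basicOpen r →
            X.presheaf.map (homOfLE hV).op q ∈ (I₀.ideal W).map (X.presheaf.map (homOfLE hV).op).hom →
            ∃ b, r ^ b * q ∈ I₀.ideal W := by
          rintro V hV rfl hmem
          let := (X.presheaf.map (homOfLE hV).op).hom.toAlgebra
          haveI : IsLocalization.Away r Γ(X, X.basicOpen r) := W.2.isLocalization_of_eq_basicOpen r _ rfl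
          obtain ⟨_, ⟨b, rfl⟩, hb⟩ :=
            (IsLocalization.algebraMap_mem_map_algebraMap_iff (Submonoid.powers r) _ (I₀.ideal W) q).1 hmem
          exact ⟨b, hb⟩
        exact this he e h0
      have hk : psect x H W.1 (r ^ b • m₁) ∈ K W := ⟨_, rfl, by
        rw [Scheme.Modules.Hom.app_smul, ← hq, ← qcl_smul, qcl_eq_zero]
        exact hb⟩
      have h1 := Ideal.mem_map_of_mem (rs x B he) hk
      rw [psect_smul, hm₁, map_mul, map_mul, map_pow, map_pow, map_pow, rs_cst] at h1
      have hu : IsUnit (cst x B W'.1 (X.presheaf.map (homOfLE he).op r)) := by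
        rw [← rs_cst]
        exact isUnit_rs_cst x r e
      rw [Ideal.unit_mul_mem_iff_mem _ (hu.pow _), Ideal.unit_mul_mem_iff_mem _ (hu.pow _), ← hn,
        rs_cst, Ideal.mul_unit_mem_iff_mem _ (hu.pow _)] at h1
      exact h1) (fun W => (hgood W).1)
  refine ⟨z', obj_ext x I₀ fun W => ?_⟩
  rw [fam_obj_map, hz']
  exact (hgood W).2

theorem surjective_map_step [HasExt.{w} X.Modules]
    (h : Subsingleton (Abelian.Ext.{w} (ClSub.idealMod I₀) (ClSub.quotMod I₀) 1))
    (hg : Art.IsSmallExt g) : Function.Surjective ((localHilb X x I₀).map g) := fun z => by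
  obtain ⟨t, ht⟩ := ArtFunLib.exists_gen hg
  obtain ⟨H, hH⟩ := exists_preimage_sheaf x g z.1
  obtain ⟨H', hH'⟩ := exists_rel_sheaf x I₀ H t
  have hD : ObsData x I₀ z g t H H' := ⟨hH, hH'⟩
  obtain ⟨φ, hφ0, hφt⟩ := exists_splitting x I₀ z h hD hg ht
  exact exists_lift_of_splitting x I₀ z hD hg ht φ hφ0 hφt

theorem surjective_map_of_bijective (g : B ⟶ A) (hg : Function.Bijective g) :
    Function.Surjective ((localHilb X x I₀).map g) := fun z => by
  let e := AlgEquiv.ofBijective g.toAlgHom hg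
  let g' : A ⟶ B := ⟨e.symm.toAlgHom, AlgHom.ext fun a => by
    obtain ⟨b, rfl⟩ := hg.2 a
    change B.res (e.symm (e b)) = A.res (g b)
    rw [e.symm_apply_apply, Art.res_app]⟩
  refine ⟨(localHilb X x I₀).map g' z, ?_⟩
  have h1 : g' ≫ g = 𝟙 A := Art.hom_ext (AlgHom.ext fun a => e.apply_symm_apply a)
  rw [← ConcreteCategory.comp_apply, ← Functor.map_comp, h1, CategoryTheory.Functor.map_id]
  rfl

theorem isSmoothFunctor [HasExt.{w} X.Modules]
    (h : Subsingleton (Abelian.Ext.{w} (ClSub.idealMod I₀) (ClSub.quotMod I₀) 1)) :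
    IsSmoothFunctor (localHilb X x I₀) := fun _ _ g hg => by
  refine ArtFunLib.surj_induction (P := fun _ _ g => Function.Surjective ((localHilb X x I₀).map g))
    (fun _ _ e he => surjective_map_of_bijective x I₀ e he) (fun _ _ _ q s _ hs hq => ?_) g hg
  rw [Functor.map_comp]
  exact (surjective_map_step x I₀ h hs).comp hq

end Groth.Agent.HilbLoc
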