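import Groth.Agent.HilbLoc.RegSplit
import Groth.Agent.HilbLoc.SmoothStep
import Groth.Agent.HilbLoc.Descend
import Groth.Agent.RegSeq.Basic
import Groth.Prelude.Def_Mor2
import Groth.Prelude.Def_Omega2

/-!
# Regularly immersed subschemes: unobstructedness
-/

set_option autoImplicit false
set_option linter.unusedSectionVars false
set_option backward.isDefEq.respectTransparency false
universe u

open CategoryTheory CategoryTheory.Limits AlgebraicGeometry IsLocalRing ArtFun TopologicalSpace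
open Groth.Agent.DefGlue

namespace Groth.Agent.HilbLoc

variable {k : Type u} [Field k] {X : Scheme.{u}} (x : X ⟶ Spec (CommRingCat.of k)) (I₀ : X.IdealSheafData)

theorem exists_chart (hreg : Mor2.IsRegularClosedImmersion I₀.subschemeι) (p : I₀.subscheme) :
    ∃ (V : X.affineOpens) (n : ℕ) (f : Fin n → Γ(X, V.1)), I₀.subschemeι p ∈ V.1 ∧
      I₀.ideal V = Ideal.span (Set.range f) ∧ CAlgX.IsH1Regular f := by
  obtain ⟨U, hU, hp, rs, hrs, hI⟩ := hreg.2 p
  rw [Scheme.IdealSheafData.ker_subschemeι] at hI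
  refine ⟨⟨U, hU⟩, rs.length, rs.get, hp, ?_,
    RegSeq.isH1Regular_of_isKoszulRegularSeq (RegSeq.isKoszulRegularSeq_of_isWeaklyRegular hrs.toIsWeaklyRegular)⟩
  rw [hI]
  change Ideal.span {r | r ∈ rs} = _
  rw [Set.range_list_get]

theorem surjective_map_step_regular' (hreg : Mor2.IsRegularClosedImmersion I₀.subschemeι)
    (h : ∀ {M : I₀.subscheme.Modules} (a : Coh.structureModule I₀.subscheme ⟶ M)
      (b : M ⟶ (Scheme.Modules.pullback I₀.subschemeι).obj (ClSub.idealMod I₀)) (hab : a ≫ b = 0),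
      (ShortComplex.mk a b hab).ShortExact → ∃ r : M ⟶ Coh.structureModule I₀.subscheme, a ≫ r = 𝟙 _)
    {A B : Art k k} {g : B ⟶ A} (hg : Art.IsSmallExt g) :
    Function.Surjective ((localHilb X x I₀).map g) := fun z => by
  obtain ⟨t, ht⟩ := ArtFunLib.exists_gen hg
  obtain ⟨H, hH⟩ := exists_preimage_sheaf x g z.1
  obtain ⟨H', hH'⟩ := exists_rel_sheaf x I₀ H t
  have hD : ObsData x I₀ z g t H H' := ⟨hH, hH'⟩
  obtain ⟨E, α, β, w, c, hE, hS, h0, hα, -, hβ⟩ := exists_extension x I₀ z hD hg ht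
  obtain ⟨r, hr⟩ := exists_retraction_descend' I₀ α β w hS (fun p => by
    obtain ⟨V, n, f, hp, hf, hf'⟩ := exists_chart I₀ hreg p
    obtain ⟨l, h1, h2⟩ := exists_local_retraction x I₀ z hD hg α β w hS c h0 hβ V f hf hf'
    exact ⟨V, hp, l, h1, h2⟩) h
  obtain ⟨φ, hφ0, hφt⟩ := exists_splitting_of_retraction x I₀ z hD h0 hα hr
  exact exists_lift_of_splitting x I₀ z hD hg ht φ hφ0 hφt

theorem isSmoothFunctor_regular' (hreg : Mor2.IsRegularClosedImmersion I₀.subschemeι)
    (h : ∀ {M : I₀.subscheme.Modules} (a : Coh.structureModule I₀.subscheme ⟶ M)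
      (b : M ⟶ (Scheme.Modules.pullback I₀.subschemeι).obj (ClSub.idealMod I₀)) (hab : a ≫ b = 0),
      (ShortComplex.mk a b hab).ShortExact → ∃ r : M ⟶ Coh.structureModule I₀.subscheme, a ≫ r = 𝟙 _) :
    IsSmoothFunctor (localHilb X x I₀) := fun _ _ g hg => by
  refine ArtFunLib.surj_induction (P := fun _ _ g => Function.Surjective ((localHilb X x I₀).map g))
    (fun _ _ e he => surjective_map_of_bijective x I₀ e he) (fun _ _ _ q s _ hs hq => ?_) g hg
  rw [Functor.map_comp]
  exact (surjective_map_step_regular' x I₀ hreg h hs).comp hq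

theorem surjective_map_step_regular [HasExt.{u} I₀.subscheme.Modules]
    (hreg : Mor2.IsRegularClosedImmersion I₀.subschemeι)
    (h : Subsingleton (Abelian.Ext.{u} (Omega.conormal I₀.subschemeι) (Coh.structureModule I₀.subscheme) 1))
    {A B : Art k k} {g : B ⟶ A} (hg : Art.IsSmallExt g) :
    Function.Surjective ((localHilb X x I₀).map g) := fun z => by
  have h' : Subsingleton (Abelian.Ext.{u} ((Scheme.Modules.pullback I₀.subschemeι).obj (ClSub.idealMod I₀))
      (Coh.structureModule I₀.subscheme) 1) := by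
    simp only [Omega.conormal] at h
    rwa [Scheme.IdealSheafData.ker_subschemeι] at h
  obtain ⟨t, ht⟩ := ArtFunLib.exists_gen hg
  obtain ⟨H, hH⟩ := exists_preimage_sheaf x g z.1
  obtain ⟨H', hH'⟩ := exists_rel_sheaf x I₀ H t
  have hD : ObsData x I₀ z g t H H' := ⟨hH, hH'⟩
  obtain ⟨E, α, β, w, c, hE, hS, h0, hα, -, hβ⟩ := exists_extension x I₀ z hD hg ht
  obtain ⟨r, hr⟩ := exists_retraction_descend I₀ α β w hS (fun p => by
    obtain ⟨V, n, f, hp, hf, hf'⟩ := exists_chart I₀ hreg p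
    obtain ⟨l, h1, h2⟩ := exists_local_retraction x I₀ z hD hg α β w hS c h0 hβ V f hf hf'
    exact ⟨V, hp, l, h1, h2⟩) h'
  obtain ⟨φ, hφ0, hφt⟩ := exists_splitting_of_retraction x I₀ z hD h0 hα hr
  exact exists_lift_of_splitting x I₀ z hD hg ht φ hφ0 hφt

theorem isSmoothFunctor_regular [HasExt.{u} I₀.subscheme.Modules]
    (hreg : Mor2.IsRegularClosedImmersion I₀.subschemeι)
    (h : Subsingleton (Abelian.Ext.{u} (Omega.conormal I₀.subschemeι) (Coh.structureModule I₀.subscheme) 1)) :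
    IsSmoothFunctor (localHilb X x I₀) := fun _ _ g hg => by
  refine ArtFunLib.surj_induction (P := fun _ _ g => Function.Surjective ((localHilb X x I₀).map g))
    (fun _ _ e he => surjective_map_of_bijective x I₀ e he) (fun _ _ _ q s _ hs hq => ?_) g hg
  rw [Functor.map_comp]
  exact (surjective_map_step_regular x I₀ hreg h hs).comp hq

end Groth.Agent.HilbLoc
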