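import Groth.Agent.DefAffHull.Ring
import Groth.Agent.DefAut.Rigid
import Groth.Agent.ArtFunLib.Small

/-!
# Ideals with flat quotient in deformed algebras
-/

set_option autoImplicit false
set_option linter.unusedSectionVars false
universe u

open IsLocalRing ArtFun Groth.Agent.DefAffHull

namespace Groth.Agent.HilbLoc

variable {Λ k : Type u} [CommRing Λ] [Field k] [Algebra Λ k]
variable {B₀ : Type u} [CommRing B₀] [Algebra k B₀]
variable {A A' A'' B : Art Λ k} {R R' R'' T : Type u} [CommRing R] [CommRing R'] [CommRing R''] [CommRing T]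
variable {f : A →+* R} {q : R →+* B₀} {f' : A' →+* R'} {q' : R' →+* B₀}
variable {f'' : A'' →+* R''} {q'' : R'' →+* B₀} {F : B →+* T} {Q : T →+* B₀}

theorem q_eq (h : IsDef A f q) {r : R} (hr : q r = 0) : r ∈ (maximalIdeal A).map f := h.ker_le hr

theorem surjective_hom (h : IsDef A f q) (h' : IsDef A' f' q') {g : A ⟶ A'} (hg : Function.Surjective g)
    (φ : R →+* R') (hf : ∀ a, φ (f a) = f' (g a)) (hq : ∀ r, q' (φ r) = q r) : Function.Surjective φ := by
  let e := Module.Free.chooseBasis k B₀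
  choose v hv using fun i => h.surj (e i)
  intro r
  obtain ⟨c, rfl⟩ := (h'.bijective_lc e (v := fun i => φ (v i)) fun i => (hq _).trans (hv i)).2 r
  obtain ⟨d, rfl⟩ := Finsupp.mapRange_surjective g.toAlgHom (map_zero _) hg c
  exact ⟨lc f v d, map_lc f f' g.toAlgHom.toRingHom φ hf v d⟩

theorem ker_hom (h : IsDef A f q) (h' : IsDef A' f' q') {g : A ⟶ A'}
    (φ : R →+* R') (hf : ∀ a, φ (f a) = f' (g a)) (hq : ∀ r, q' (φ r) = q r) :
    RingHom.ker φ = (RingHom.ker g.toAlgHom.toRingHom).map f := by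
  let e := Module.Free.chooseBasis k B₀
  choose v hv using fun i => h.surj (e i)
  refine le_antisymm (fun r hr => ?_) (Ideal.map_le_iff_le_comap.2 fun a ha => ?_)
  · obtain ⟨c, rfl⟩ := (h.bijective_lc e hv).2 r
    rw [RingHom.mem_ker, map_lc f f' g.toAlgHom.toRingHom φ hf] at hr
    have h0 := (h'.bijective_lc e (v := fun i => φ (v i)) fun i => (hq _).trans (hv i)).1
      (hr.trans (map_zero _).symm)
    rw [lc, Finsupp.liftAddHom_apply]
    exact Ideal.sum_mem _ fun i _ => Ideal.mul_mem_right _ _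
      (Ideal.mem_map_of_mem f (DFunLike.congr_fun h0 i))
  · rw [Ideal.mem_comap, RingHom.mem_ker, hf, show g a = 0 from ha, map_zero]

theorem map_maximalIdeal_le (g : A ⟶ A') {φ : R →+* R'} (hf : ∀ a, φ (f a) = f' (g a)) :
    ((maximalIdeal A).map f).map φ ≤ (maximalIdeal A').map f' := by
  refine Ideal.map_le_iff_le_comap.2 (Ideal.map_le_iff_le_comap.2 fun a ha => ?_)
  rw [Ideal.mem_comap, Ideal.mem_comap, hf]
  exact Ideal.mem_map_of_mem f' ((Art.mem_maximalIdeal_iff A' _).2 ((Art.res_app g a).trans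
    ((Art.mem_maximalIdeal_iff A _).1 ha)))

section square

variable {p' : B ⟶ A'} {p'' : B ⟶ A''} {g' : A' ⟶ A} {g'' : A'' ⟶ A}
variable {π' : T →+* R'} {π'' : T →+* R''} {a : R' →+* R} {b : R'' →+* R}

theorem square_inj (hP : Art.IsFibreProd p' p'' g' g'') (hT : IsDef B F Q)
    (hR' : IsDef A' f' q') (hR'' : IsDef A'' f'' q'')
    (h1 : ∀ x, π' (F x) = f' (p' x)) (h2 : ∀ x, π'' (F x) = f'' (p'' x))
    (hq1 : ∀ r, q' (π' r) = Q r) (hq2 : ∀ r, q'' (π'' r) = Q r)
    (r s : T) (hr : π' r = π' s) (hs : π'' r = π'' s) : r = s := by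
  let e := Module.Free.chooseBasis k B₀
  choose v hv using fun i => hT.surj (e i)
  obtain ⟨c, rfl⟩ := (hT.bijective_lc e hv).2 r
  obtain ⟨d, rfl⟩ := (hT.bijective_lc e hv).2 s
  rw [map_lc F f' p'.toAlgHom.toRingHom π' h1, map_lc F f' p'.toAlgHom.toRingHom π' h1] at hr
  rw [map_lc F f'' p''.toAlgHom.toRingHom π'' h2, map_lc F f'' p''.toAlgHom.toRingHom π'' h2] at hs
  have hr' := (hR'.bijective_lc e (v := fun i => π' (v i)) fun i => (hq1 _).trans (hv i)).1 hr
  have hs' := (hR''.bijective_lc e (v := fun i => π'' (v i)) fun i => (hq2 _).trans (hv i)).1 hs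
  exact congrArg _ (Finsupp.ext fun i => hP.inj _ _ (DFunLike.congr_fun hr' i) (DFunLike.congr_fun hs' i))

theorem square_surj (hP : Art.IsFibreProd p' p'' g' g'') (hT : IsDef B F Q)
    (hR : IsDef A f q) (hR' : IsDef A' f' q') (hR'' : IsDef A'' f'' q'')
    (h1 : ∀ x, π' (F x) = f' (p' x)) (h2 : ∀ x, π'' (F x) = f'' (p'' x))
    (hq1 : ∀ r, q' (π' r) = Q r) (hq2 : ∀ r, q'' (π'' r) = Q r)
    (ha : ∀ x, a (f' x) = f (g' x)) (hb : ∀ x, b (f'' x) = f (g'' x))
    (haq : ∀ r, q (a r) = q' r) (hcomm : ∀ r, a (π' r) = b (π'' r))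
    (r' : R') (r'' : R'') (h : a r' = b r'') : ∃ r, π' r = r' ∧ π'' r = r'' := by
  classical
  let e := Module.Free.chooseBasis k B₀
  choose v hv using fun i => hT.surj (e i)
  have hv' : ∀ i, q' (π' (v i)) = e i := fun i => (hq1 _).trans (hv i)
  have hv'' : ∀ i, q'' (π'' (v i)) = e i := fun i => (hq2 _).trans (hv i)
  obtain ⟨c', rfl⟩ := (hR'.bijective_lc e hv').2 r'
  obtain ⟨c'', rfl⟩ := (hR''.bijective_lc e hv'').2 r''
  rw [map_lc f' f g'.toAlgHom.toRingHom a ha, map_lc f'' f g''.toAlgHom.toRingHom b hb,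
    show (fun i => b (π'' (v i))) = fun i => a (π' (v i)) from funext fun i => (hcomm _).symm] at h
  have h3 := (hR.bijective_lc e (v := fun i => a (π' (v i))) fun i => (haq _).trans (hv' i)).1 h
  choose w hw' hw'' using fun i => hP.surj (c' i) (c'' i) (DFunLike.congr_fun h3 i)
  let c : _ →₀ B := Finsupp.onFinset (c'.support ∪ c''.support) w fun i hi => by
    by_contra hn
    rw [Finset.mem_union, not_or, Finsupp.notMem_support_iff, Finsupp.notMem_support_iff] at hn
    exact hi (hP.inj _ _ ((hw' i).trans (hn.1.trans (map_zero p'.toAlgHom).symm))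
      ((hw'' i).trans (hn.2.trans (map_zero p''.toAlgHom).symm)))
  refine ⟨lc F v c, ?_, ?_⟩
  · rw [map_lc F f' p'.toAlgHom.toRingHom π' h1]
    exact congrArg _ (Finsupp.ext hw')
  · rw [map_lc F f'' p''.toAlgHom.toRingHom π'' h2]
    exact congrArg _ (Finsupp.ext hw'')

end square

/-- An ideal lifting `I₀` with flat quotient. -/
structure Good (f : A →+* R) (q : R →+* B₀) (I₀ : Ideal B₀) (J : Ideal R) : Prop where
  red_eq : J.map q = I₀
  flat : ((Ideal.Quotient.mk J).comp f).Flat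

variable {I₀ : Ideal B₀} {J : Ideal R}

theorem Good.le_comap (h : Good f q I₀ J) : J ≤ I₀.comap q :=
  Ideal.map_le_iff_le_comap.1 h.red_eq.le

theorem Good.exists_lift (h : Good f q I₀ J) (hR : IsDef A f q) {b : B₀} (hb : b ∈ I₀) :
    ∃ j ∈ J, q j = b := (Ideal.mem_map_iff_of_surjective q hR.surj).1 (h.red_eq.ge hb)

theorem Good.isDef (h : Good f q I₀ J) (hR : IsDef A f q) :
    IsDef A ((Ideal.Quotient.mk J).comp f) (Ideal.quotientMap I₀ q h.le_comap) where
  comp a := by
    rw [RingHom.comp_apply, Ideal.quotientMap_mk, hR.comp]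
    rfl
  surj := Ideal.quotientMap_surjective hR.surj
  ker_le := by
    intro z hz
    obtain ⟨r, rfl⟩ := Ideal.Quotient.mk_surjective z
    rw [RingHom.mem_ker, Ideal.quotientMap_mk, Ideal.Quotient.eq_zero_iff_mem] at hz
    obtain ⟨j, hj, hjr⟩ := h.exists_lift hR hz
    rw [← Ideal.map_map, ← sub_add_cancel r j, map_add, (Ideal.Quotient.eq_zero_iff_mem).2 hj, add_zero]
    exact Ideal.mem_map_of_mem _ (hR.ker_le (by rw [RingHom.mem_ker, map_sub, hjr, sub_self]))
  flat := h.flat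

theorem Good.eq_of_le (hR : IsDef A f q) {J' : Ideal R} (h : Good f q I₀ J) (h' : Good f q I₀ J') (hle : J ≤ J') :
    J = J' := by
  refine le_antisymm hle fun r hr => ?_
  have hb := (h.isDef hR).bijective_hom (h'.isDef hR) (Ideal.Quotient.factor hle) (fun a => rfl) fun z => by
    obtain ⟨z, rfl⟩ := Ideal.Quotient.mk_surjective z
    rfl
  rw [← Ideal.Quotient.eq_zero_iff_mem]
  refine hb.1 ?_
  rw [map_zero, Ideal.Quotient.factor_mk, Ideal.Quotient.eq_zero_iff_mem]
  exact hr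

theorem Good.mem_of_mul_mem (h : Good f q I₀ J) (hR : IsDef A f q) {t : A} (ht : t ≠ 0) {r : R}
    (hr : f t * r ∈ J) : q r ∈ I₀ := by
  have h1 : ((Ideal.Quotient.mk J).comp f) t * Ideal.Quotient.mk J r ∈
      (⊥ : Ideal A).map ((Ideal.Quotient.mk J).comp f) := by
    rw [Ideal.map_bot, Ideal.mem_bot, RingHom.comp_apply, ← map_mul, Ideal.Quotient.eq_zero_iff_mem]
    exact hr
  have h2 := DefAut.mem_map_of_mul_mem h.flat (fun hh => ht (Ideal.mem_bot.1 hh)) h1
  have hd := h.isDef hR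
  have h3 : (maximalIdeal A).map ((Ideal.Quotient.mk J).comp f) ≤
      RingHom.ker (Ideal.quotientMap I₀ q h.le_comap) := Ideal.map_le_iff_le_comap.2 fun a ha => by
    rw [Ideal.mem_comap, RingHom.mem_ker, hd.comp, (Art.mem_maximalIdeal_iff A _).1 ha, map_zero]
  have h4 := h3 h2
  rwa [RingHom.mem_ker, Ideal.quotientMap_mk, Ideal.Quotient.eq_zero_iff_mem] at h4

/-- The ideal over a fibre product is good. -/
theorem Good.fibre {p' : B ⟶ A'} {p'' : B ⟶ A''} {g' : A' ⟶ A} {g'' : A'' ⟶ A}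
    {π' : T →+* R'} {π'' : T →+* R''} {a : R' →+* R} {b : R'' →+* R}
    (hP : Art.IsFibreProd p' p'' g' g'') (hg : Function.Surjective g'')
    (hT : IsDef B F Q) (hR : IsDef A f q) (hR' : IsDef A' f' q') (hR'' : IsDef A'' f'' q'')
    (h1 : ∀ x, π' (F x) = f' (p' x)) (h2 : ∀ x, π'' (F x) = f'' (p'' x))
    (hq1 : ∀ r, q' (π' r) = Q r) (hq2 : ∀ r, q'' (π'' r) = Q r)
    (ha : ∀ x, a (f' x) = f (g' x)) (hb : ∀ x, b (f'' x) = f (g'' x))
    (haq : ∀ r, q (a r) = q' r) (hbq : ∀ r, q (b r) = q'' r) (hcomm : ∀ r, a (π' r) = b (π'' r))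
    {J' : Ideal R'} {J'' : Ideal R''} {J : Ideal R} (hJ : Good f q I₀ J) (hJ' : Good f' q' I₀ J')
    (hJ'' : Good f'' q'' I₀ J'') (ha' : J'.map a ≤ J) (hb' : J''.map b = J) :
    Good F Q I₀ (J'.comap π' ⊓ J''.comap π'') := by
  have hbs : Function.Surjective b := surjective_hom hR'' hR hg b hb hbq
  have hlift : ∀ r' r'', a r' - b r'' ∈ J →
      ∃ r, π' r - r' ∈ J' ∧ π'' r - r'' ∈ J'' := fun r' r'' h => by
    obtain ⟨j, hj, hje⟩ := (Ideal.mem_map_iff_of_surjective b hbs).1 (hb'.ge h)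
    obtain ⟨r, hr', hr''⟩ := square_surj hP hT hR hR' hR'' h1 h2 hq1 hq2 ha hb haq hcomm r' (r'' + j)
      (by rw [map_add, hje, add_sub_cancel])
    exact ⟨r, by rw [hr', sub_self]; exact zero_mem _, by rwa [hr'', add_sub_cancel_left]⟩
  refine ⟨le_antisymm ?_ ?_, ?_⟩
  · refine Ideal.map_le_iff_le_comap.2 fun r hr => ?_
    rw [Ideal.mem_comap, ← hq1]
    exact hJ'.le_comap hr.1
  · intro i hi
    obtain ⟨j', hj', rfl⟩ := hJ'.exists_lift hR' hi
    have h3 : a j' ∈ J := ha' (Ideal.mem_map_of_mem a hj')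
    obtain ⟨j'', hj'', hje⟩ := (Ideal.mem_map_iff_of_surjective b hbs).1 (hb'.ge h3)
    obtain ⟨r, hr', hr''⟩ := square_surj hP hT hR hR' hR'' h1 h2 hq1 hq2 ha hb haq hcomm j' j'' hje.symm
    rw [show q' j' = Q r by rw [← hq1, hr']]
    exact Ideal.mem_map_of_mem Q ⟨show π' r ∈ J' by rwa [hr'], show π'' r ∈ J'' by rwa [hr'']⟩
  · let a' : R' ⧸ J' →+* R ⧸ J := Ideal.quotientMap J a (Ideal.map_le_iff_le_comap.1 ha')
    let b' : R'' ⧸ J'' →+* R ⧸ J := Ideal.quotientMap J b (Ideal.map_le_iff_le_comap.1 hb'.le)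
    obtain ⟨P, _, FP, QP, u', u'', hPd, hu', hu'', -, -, hPs, hPi, hPc⟩ :=
      exists_fibre_product_comm hP hg (hJ.isDef hR) (hJ'.isDef hR') (hJ''.isDef hR'') a' b'
        (fun z => by
          change a' (Ideal.Quotient.mk J' (f' z)) = Ideal.Quotient.mk J (f (g' z))
          rw [Ideal.quotientMap_mk, ha])
        (fun z => by
          change b' (Ideal.Quotient.mk J'' (f'' z)) = Ideal.Quotient.mk J (f (g'' z))
          rw [Ideal.quotientMap_mk, hb])
        (fun z => by
          obtain ⟨z, rfl⟩ := Ideal.Quotient.mk_surjective z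
          simp only [a', Ideal.quotientMap_mk, haq])
        (fun z => by
          obtain ⟨z, rfl⟩ := Ideal.Quotient.mk_surjective z
          simp only [b', Ideal.quotientMap_mk, hbq])
    have hex : ∀ r, ∃ p, u' p = Ideal.Quotient.mk J' (π' r) ∧ u'' p = Ideal.Quotient.mk J'' (π'' r) :=
      fun r => hPs _ _ (by
        change a' _ = b' _
        simp only [a', b', Ideal.quotientMap_mk, hcomm])
    choose φ hφ' hφ'' using hex
    let φh : T →+* P :=
      { toFun := φ
        map_one' := hPi _ _ (by simp [hφ']) (by simp [hφ''])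
        map_mul' := fun r s => hPi _ _ (by simp [hφ']) (by simp [hφ''])
        map_zero' := hPi _ _ (by simp [hφ']) (by simp [hφ''])
        map_add' := fun r s => hPi _ _ (by simp [hφ']) (by simp [hφ'']) }
    have hker : RingHom.ker φh = J'.comap π' ⊓ J''.comap π'' := by
      ext r
      rw [RingHom.mem_ker, Ideal.mem_inf, Ideal.mem_comap, Ideal.mem_comap,
        ← Ideal.Quotient.eq_zero_iff_mem, ← Ideal.Quotient.eq_zero_iff_mem]
      refine ⟨fun hr => ⟨?_, ?_⟩, fun hr => hPi _ _ ?_ ?_⟩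
      · rw [← hφ' r, show φ r = 0 from hr, map_zero]
      · rw [← hφ'' r, show φ r = 0 from hr, map_zero]
      · rw [map_zero]
        exact (hφ' r).trans hr.1
      · rw [map_zero]
        exact (hφ'' r).trans hr.2
    have hsurj : Function.Surjective φh := fun p => by
      obtain ⟨r', hr'⟩ := Ideal.Quotient.mk_surjective (u' p)
      obtain ⟨r'', hr''⟩ := Ideal.Quotient.mk_surjective (u'' p)
      have h3 := hPc p
      rw [← hr', ← hr''] at h3
      simp only [a', b', Ideal.quotientMap_mk] at h3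
      obtain ⟨r, hr1, hr2⟩ := hlift r' r'' (Ideal.Quotient.eq.1 h3)
      exact ⟨r, hPi _ _ ((hφ' r).trans ((Ideal.Quotient.eq.2 hr1).trans hr'))
        ((hφ'' r).trans ((Ideal.Quotient.eq.2 hr2).trans hr''))⟩
    let e : T ⧸ (J'.comap π' ⊓ J''.comap π'') ≃+* P :=
      (Ideal.quotEquivOfEq hker.symm).trans (RingHom.quotientKerEquivOfSurjective hsurj)
    have he : (e.symm.toRingHom).comp FP = (Ideal.Quotient.mk _).comp F := RingHom.ext fun z => by
      refine e.symm_apply_eq.2 (hPi _ _ ?_ ?_)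
      · exact (hu' z).trans ((congrArg (Ideal.Quotient.mk J') (h1 z)).symm.trans (hφ' (F z)).symm)
      · exact (hu'' z).trans ((congrArg (Ideal.Quotient.mk J'') (h2 z)).symm.trans (hφ'' (F z)).symm)
    rw [← he]
    exact hPd.flat.comp (RingHom.Flat.of_bijective (f := e.symm.toRingHom) e.symm.bijective)

/-- Flatness of a lift along a small extension. -/
theorem good_of_smallExt {g : B ⟶ A} (hg : Art.IsSmallExt g) {t : B}
    (ht : RingHom.ker g.toAlgHom = Ideal.span {t}) (hT : IsDef B F Q) (hR : IsDef A f q)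
    (P : T →+* R) (hP : ∀ x, P (F x) = f (g x)) (hPq : ∀ r, q (P r) = Q r)
    {J : Ideal R} (hJ : Good f q I₀ J) {K : Ideal T} (hKP : K.map P = J)
    (htI : ∀ s, Q s ∈ I₀ → F t * s ∈ K) (hKt : ∀ s, F t * s ∈ K → Q s ∈ I₀) :
    Good F Q I₀ K := by
  have hred : K.map Q = I₀ := by
    rw [show Q = q.comp P from RingHom.ext fun r => (hPq r).symm, ← Ideal.map_map, hKP, hJ.red_eq]
  refine ⟨hred, ?_⟩
  let e := Module.Free.chooseBasis k (B₀ ⧸ I₀)
  let QK : T ⧸ K →+* B₀ ⧸ I₀ := Ideal.quotientMap I₀ Q (Ideal.map_le_iff_le_comap.1 hred.le)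
  let PK : T ⧸ K →+* R ⧸ J := Ideal.quotientMap J P (Ideal.map_le_iff_le_comap.1 hKP.le)
  let FK := (Ideal.Quotient.mk K).comp F
  have hsurjP : Function.Surjective P := surjective_hom hT hR hg.1 P hP hPq
  have hc : ∀ a : B, QK (FK a) = algebraMap k (B₀ ⧸ I₀) (B.res a) := fun a => by
    simp only [QK, FK, RingHom.comp_apply, Ideal.quotientMap_mk, hT.comp]
    rfl
  have hsQ : Function.Surjective QK := Ideal.quotientMap_surjective hT.surj
  choose v hv using fun i => hsQ (e i)
  have hPK : ∀ a : B, PK (FK a) = ((Ideal.Quotient.mk J).comp f) (g a) := fun a => by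
    simp only [PK, FK, RingHom.comp_apply, Ideal.quotientMap_mk, hP]
  have hPKv : ∀ i, Ideal.quotientMap I₀ q hJ.le_comap (PK (v i)) = e i := fun i => by
    rw [← hv i]
    obtain ⟨w, hw⟩ := Ideal.Quotient.mk_surjective (v i)
    simp only [← hw, QK, PK, Ideal.quotientMap_mk, hPq]
  have hA := (hJ.isDef hR).bijective_lc e hPKv
  have hmulT : ∀ (b : _ →₀ B), lc FK v (b.mapRange (fun x => x * t) (zero_mul t)) = FK t * lc FK v b := fun b => by
    induction b using Finsupp.induction_linear with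
    | zero => simp
    | add x y hx hy =>
      rw [Finsupp.mapRange_add (fun _ _ => add_mul _ _ _), map_add, map_add, hx, hy, mul_add]
    | single i x => rw [Finsupp.mapRange_single, lc_single, lc_single, map_mul]; ring
  refine (IsDef.of_bijective (q := QK) hc e hv ⟨?_, ?_⟩).flat
  · rw [injective_iff_map_eq_zero]
    intro c hc0
    have h3 := congrArg PK hc0
    rw [map_zero, map_lc FK _ g.toAlgHom.toRingHom PK hPK] at h3
    have h4 := hA.1 (h3.trans (map_zero _).symm)
    have hex : ∀ i, ∃ b, b * t = c i := fun i => ArtFunLib.exists_mul_gen ht (DFunLike.congr_fun h4 i)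
    choose b hb using hex
    classical
    let b' : _ →₀ B := Finsupp.onFinset c.support (fun i => if c i = 0 then 0 else b i) (fun i hi => by
      rw [Finsupp.mem_support_iff]
      exact fun h0 => hi (if_pos h0))
    have hb' : c = b'.mapRange (fun x => x * t) (zero_mul t) := Finsupp.ext fun i => by
      by_cases h0 : c i = 0
      · simp [b', h0]
      · simp [b', h0, hb]
    rw [hb', hmulT] at hc0
    obtain ⟨s, hs⟩ := Ideal.Quotient.mk_surjective (lc FK v b')
    rw [← hs, show FK t = Ideal.Quotient.mk K (F t) from rfl, ← map_mul, Ideal.Quotient.eq_zero_iff_mem] at hc0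
    have h5 := hKt s hc0
    have h6 : QK (lc FK v b') = 0 := by
      rw [← hs]
      simp only [QK, Ideal.quotientMap_mk]
      exact Ideal.Quotient.eq_zero_iff_mem.2 h5
    rw [q_lc hc e hv] at h6
    have h7 := e.linearIndependent (h6.trans (map_zero _).symm)
    rw [hb']
    refine Finsupp.ext fun i => ?_
    rw [Finsupp.mapRange_apply, Finsupp.zero_apply]
    have h8 : B.res (b' i) = B.res 0 := (DFunLike.congr_fun h7 i).trans (map_zero B.res).symm
    exact ((ArtFunLib.mul_gen_eq_iff hg ht _ _).2 h8).trans (zero_mul t)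
  · intro z
    obtain ⟨c₁, hc₁⟩ := hA.2 (PK z)
    obtain ⟨c₂, rfl⟩ := Finsupp.mapRange_surjective g.toAlgHom (map_zero _) hg.1 c₁
    obtain ⟨w, hw⟩ := Ideal.Quotient.mk_surjective (z - lc FK v c₂)
    have h3 : P w ∈ J := by
      rw [← Ideal.Quotient.eq_zero_iff_mem, ← Ideal.quotientMap_mk (f := P)
        (H := Ideal.map_le_iff_le_comap.1 hKP.le), hw]
      change PK _ = 0
      rw [map_sub, map_lc FK _ g.toAlgHom.toRingHom PK hPK]
      exact sub_eq_zero.2 hc₁.symm
    obtain ⟨j, hj, hjw⟩ := (Ideal.mem_map_iff_of_surjective P hsurjP).1 (hKP.ge h3)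
    have h4 : w - j ∈ RingHom.ker P := by rw [RingHom.mem_ker, map_sub, hjw, sub_self]
    rw [ker_hom hT hR P hP hPq, show RingHom.ker g.toAlgHom.toRingHom = Ideal.span {t} from ht,
      Ideal.map_span, Set.image_singleton, Ideal.mem_span_singleton'] at h4
    obtain ⟨s, hs⟩ := h4
    obtain ⟨d, hd⟩ : ∃ d, QK (lc FK v d) = QK (Ideal.Quotient.mk K s) := by
      obtain ⟨d, hd⟩ := Finsupp.mapRange_surjective B.res (map_zero B.res) B.res_surjective
        (e.repr (QK (Ideal.Quotient.mk K s)))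
      exact ⟨d, by rw [q_lc hc e hv, hd, e.linearCombination_repr]⟩
    obtain ⟨r, hr⟩ := Ideal.Quotient.mk_surjective (lc FK v d)
    refine ⟨c₂ + d.mapRange (fun x => x * t) (zero_mul t), ?_⟩
    rw [map_add, hmulT, ← hr, show FK t = Ideal.Quotient.mk K (F t) from rfl, ← map_mul]
    have h5 : Q (r - s) ∈ I₀ := by
      rw [← hr] at hd
      simp only [QK, Ideal.quotientMap_mk] at hd
      rw [map_sub]
      exact Ideal.Quotient.eq.1 hd
    have h6 : Ideal.Quotient.mk K (F t * r) = Ideal.Quotient.mk K w := by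
      refine Ideal.Quotient.eq.2 ?_
      have h7 : F t * r - w = F t * (r - s) - j := by rw [mul_sub, mul_comm (F t) s, hs]; ring
      rw [h7]
      exact sub_mem (htI _ h5) hj
    rw [h6, hw, add_sub_cancel]

end Groth.Agent.HilbLoc
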