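import Groth.Agent.HilbLoc.Pushed
import Groth.Agent.HilbLoc.Flat

/-!
# Lifting along small extensions when `Ext¹(I, O/I)` vanishes
-/

set_option autoImplicit false
set_option linter.unusedSectionVars false
set_option backward.isDefEq.respectTransparency false
universe w u

open CategoryTheory CategoryTheory.Limits AlgebraicGeometry IsLocalRing ArtFun TopologicalSpace
open Groth.Agent.DefGlue

namespace Groth.Agent.HilbLoc

variable {k : Type u} [Field k] {X : Scheme.{u}} (x : X ⟶ Spec (CommRingCat.of k)) (I₀ : X.IdealSheafData)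
variable {A B : Art k k} {g : B ⟶ A}

theorem mul_gen_zero (hg : Art.IsSmallExt g) {t : B} (ht : RingHom.ker g.toAlgHom = Ideal.span {t}) :
    ∀ m ∈ maximalIdeal B, m * t = 0 := fun a ha => by
  have h := (ArtFunLib.mul_gen_eq_iff hg ht a 0).2 (by rw [(Art.mem_maximalIdeal_iff B a).1 ha, map_zero])
  rwa [zero_mul] at h

variable (g) in
/-- The preimage of an ideal over `A`. -/
theorem exists_preimage_sheaf (K : (Art.XA x A).IdealSheafData) :
    ∃ H : (Art.XA x B).IdealSheafData, ∀ W, fam x H W = (fam x K W).comap (bc x g W.1) := by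
  refine exists_idealSheaf x _ fun W W' r e => ?_
  have he := e.le.trans (X.basicOpen_le r)
  refine le_antisymm (Ideal.map_le_iff_le_comap.2 fun s hs => ?_) fun s hs => ?_
  · rw [Ideal.mem_comap, Ideal.mem_comap, bc_rs, ← fam_map x K he]
    exact Ideal.mem_map_of_mem _ hs
  · obtain ⟨n, s₀, hn⟩ := exists_rs_eq x B W.2 r e s
    have h3 : rs x A he (bc x g W.1 s₀) ∈ fam x K W' := by
      rw [← bc_rs, ← hn, map_mul]
      exact Ideal.mul_mem_right _ _ hs
    obtain ⟨m, hm⟩ := exists_mem_of_rs_mem x K r e _ h3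
    have h4 : cst x B W.1 r ^ m * s₀ ∈ (fam x K W).comap (bc x g W.1) := by
      rwa [Ideal.mem_comap, map_mul, map_pow, bc_cst]
    have h5 := Ideal.mem_map_of_mem (rs x B he) h4
    rw [map_mul, map_pow, ← hn] at h5
    rwa [Ideal.unit_mul_mem_iff_mem _ ((isUnit_rs_cst x r e).pow _),
      Ideal.mul_unit_mem_iff_mem _ ((isUnit_rs_cst x r e).pow _)] at h5

/-- The relations of the obstruction extension. -/
theorem exists_rel_sheaf (H : (Art.XA x B).IdealSheafData) (t : B) :
    ∃ H' : (Art.XA x B).IdealSheafData, ∀ W, fam x H' W = (maximalIdeal B).map (str x B W.1) * fam x H W ⊔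
      Ideal.span {str x B W.1 t} * (I₀.ideal W).map (cst x B W.1) := by
  refine exists_idealSheaf x _ fun W W' r e => ?_
  have he := e.le.trans (X.basicOpen_le r)
  rw [Ideal.map_sup, Ideal.map_mul, Ideal.map_mul, fam_map x H he, Ideal.map_span, Set.image_singleton, rs_str]
  congr 2
  · rw [Ideal.map_map]
    exact congrArg (fun φ => (maximalIdeal B).map φ) (RingHom.ext (rs_str x B he))
  · rw [Ideal.map_map, ← I₀.map_ideal (U := W') (V := W) he, Ideal.map_map]
    exact congrArg (fun φ => (I₀.ideal W).map φ) (RingHom.ext (rs_cst x B he))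

variable {H H' : (Art.XA x B).IdealSheafData} {t : B} (z : (localHilb X x I₀).obj A)

/-- The obstruction data. -/
structure ObsData (g : B ⟶ A) (t : B) (H H' : (Art.XA x B).IdealSheafData) : Prop where
  fam_top : ∀ W, fam x H W = (fam x z.1 W).comap (bc x g W.1)
  fam_rel : ∀ W, fam x H' W = (maximalIdeal B).map (str x B W.1) * fam x H W ⊔
      Ideal.span {str x B W.1 t} * (I₀.ideal W).map (cst x B W.1)

variable {x I₀ z}

theorem ObsData.str_mul_mem (hD : ObsData x I₀ z g t H H') (hgt : g t = 0) (W : X.affineOpens) (s : S x B W.1) :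
    str x B W.1 t * s ∈ fam x H W := by
  rw [hD.fam_top, Ideal.mem_comap, map_mul, bc_str, hgt, map_zero, zero_mul]
  exact zero_mem _

theorem ObsData.rel_le (hD : ObsData x I₀ z g t H H') (hgt : g t = 0) (W : X.affineOpens) :
    fam x H' W ≤ fam x H W := by
  rw [hD.fam_rel]
  refine sup_le Ideal.mul_le_right (Ideal.mul_le.2 fun a ha b _ => ?_)
  obtain ⟨c, rfl⟩ := Ideal.mem_span_singleton'.1 ha
  rw [mul_comm c, mul_assoc]
  exact hD.str_mul_mem hgt W _

theorem ObsData.red_mem (hD : ObsData x I₀ z g t H H') (W : X.affineOpens) {s : S x B W.1}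
    (hs : s ∈ fam x H W) : red x B W.1 s ∈ I₀.ideal W := by
  let := (sHom x W.1).toAlgebra
  rw [hD.fam_top] at hs
  rw [← red_bc x g W.1]
  exact (goodAt_fam x I₀ z W).le_comap hs

theorem ObsData.red_eq_zero (hD : ObsData x I₀ z g t H H') (hgt : g t = 0) (W : X.affineOpens) {s : S x B W.1}
    (hs : s ∈ fam x H' W) : red x B W.1 s = 0 := by
  rw [hD.fam_rel] at hs
  refine (sup_le ?_ ?_ : _ ≤ RingHom.ker (red x B W.1)) hs
  · refine Ideal.mul_le_left.trans (Ideal.map_le_iff_le_comap.2 fun a ha => ?_)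
    rw [Ideal.mem_comap, RingHom.mem_ker, red_str, (Art.mem_maximalIdeal_iff B a).1 ha, map_zero]
  · refine Ideal.mul_le_left.trans ((Ideal.span_singleton_le_iff_mem _).2 ?_)
    rw [RingHom.mem_ker, red_str, (Art.res_app g t).symm, hgt, map_zero, map_zero]

theorem ObsData.inj (hD : ObsData x I₀ z g t H H') (hg : Art.IsSmallExt g)
    (ht : RingHom.ker g.toAlgHom = Ideal.span {t}) (W : X.affineOpens) {r : Γ(X, W.1)}
    (hr : str x B W.1 t * cst x B W.1 r ∈ fam x H' W) : r ∈ I₀.ideal W := by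
  let := (sHom x W.1).toAlgebra
  rw [hD.fam_rel, Submodule.mem_sup] at hr
  obtain ⟨a, ha, b, hb, hab⟩ := hr
  obtain ⟨c, hc, hcb⟩ : ∃ c ∈ (I₀.ideal W).map (cst x B W.1), str x B W.1 t * c = b :=
    Ideal.mem_span_singleton_mul.1 hb
  have h1 : red x B W.1 c ∈ I₀.ideal W := by
    refine (Ideal.map_le_iff_le_comap.2 (fun i hi => ?_) :
      (I₀.ideal W).map (cst x B W.1) ≤ (I₀.ideal W).comap (red x B W.1)) hc
    rwa [Ideal.mem_comap, Ideal.mem_comap, red_cst]
  have h2 := red_mem_of_mul_mem_maximal_mul hg ht (isDef x B W.1 W.2) (isDef x A W.1 W.2) (bc x g W.1)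
    (bc_str x g W.1) (red_bc x g W.1) (goodAt_fam x I₀ z W) (s := cst x B W.1 r - c) (by
      rw [mul_sub, hcb, ← hab, add_sub_cancel_right, ← hD.fam_top]
      exact ha)
  rw [map_sub, red_cst] at h2
  simpa using add_mem h2 h1

theorem ObsData.exact (hD : ObsData x I₀ z g t H H') (hg : Art.IsSmallExt g)
    (ht : RingHom.ker g.toAlgHom = Ideal.span {t}) (W : X.affineOpens) {s : S x B W.1}
    (hs : s ∈ fam x H W) (h0 : red x B W.1 s = 0) :
    ∃ r, s - str x B W.1 t * cst x B W.1 r ∈ fam x H' W := by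
  let := (sHom x W.1).toAlgebra
  have h1 : bc x g W.1 s ∈ (maximalIdeal A).map (str x A W.1) * fam x z.1 W :=
    (goodAt_fam x I₀ z W).mem_map_mul (isDef x A W.1 W.2) (by rw [hD.fam_top] at hs; exact hs) (by rw [red_bc, h0])
  have hm : maximalIdeal A ≤ (maximalIdeal B).map g.toAlgHom.toRingHom := fun a ha => by
    obtain ⟨b, rfl⟩ := hg.1 a
    exact Ideal.mem_map_of_mem g.toAlgHom.toRingHom ((Art.mem_maximalIdeal_iff B b).2
      ((Art.res_app g b).symm.trans ((Art.mem_maximalIdeal_iff A _).1 ha)))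
  have h2 : (maximalIdeal A).map (str x A W.1) * fam x z.1 W ≤
      ((maximalIdeal B).map (str x B W.1) * fam x H W).map (bc x g W.1) := by
    rw [Ideal.map_mul, hD.fam_top, Ideal.map_comap_of_surjective _ (surjective_bc x hg.1 W), Ideal.map_map,
      show (bc x g W.1).comp (str x B W.1) = (str x A W.1).comp g.toAlgHom.toRingHom from
        RingHom.ext (bc_str x g W.1), ← Ideal.map_map]
    exact Ideal.mul_mono (Ideal.map_mono hm) le_rfl
  obtain ⟨y, hy, hyb⟩ := (Ideal.mem_map_iff_of_surjective _ (surjective_bc x hg.1 W)).1 (h2 h1)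
  obtain ⟨u, hu⟩ := (mem_ker_bc x ht W (s := s - y)).1 (by rw [map_sub, hyb, sub_self])
  refine ⟨red x B W.1 u, ?_⟩
  have h3 : str x B W.1 t * (u - cst x B W.1 (red x B W.1 u)) = 0 :=
    str_mul_eq_zero x (mul_gen_zero hg ht) W (by rw [map_sub, red_cst, sub_self])
  rw [mul_sub, sub_eq_zero] at h3
  rw [← h3, ← hu, sub_sub_cancel, hD.fam_rel]
  exact Submodule.mem_sup_left hy

variable (x I₀ z)

/-- The obstruction extension. -/
theorem exists_extension (hD : ObsData x I₀ z g t H H') (hg : Art.IsSmallExt g)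
    (ht : RingHom.ker g.toAlgHom = Ideal.span {t}) :
    ∃ (E : X.Modules) (α : ClSub.quotMod I₀ ⟶ E) (β : E ⟶ ClSub.idealMod I₀) (w : α ≫ β = 0)
      (c : pmod x H ⟶ E), E.IsQuasicoherent ∧ (ShortComplex.mk α β w).ShortExact ∧
      (∀ (W : X.affineOpens) m, c.app W.1 m = 0 ↔ psect x H W.1 m ∈ fam x H' W) ∧
      (∀ (W : X.affineOpens) (r : Γ(X, W.1)) m, psect x H W.1 m = str x B W.1 t * cst x B W.1 r →
        α.app W.1 (qcl I₀ W.1 r) = c.app W.1 m) ∧
      (∀ W : X.affineOpens, Function.Surjective (c.app W.1)) ∧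
      ∀ (W : X.affineOpens) m,
        OmegaSh.idealSect I₀ W.1 (β.app W.1 (c.app W.1 m)) = red x B W.1 (psect x H W.1 m) := by
  have hgt : g t = 0 := by
    have : t ∈ RingHom.ker g.toAlgHom := ht ▸ Ideal.mem_span_singleton_self t
    exact this
  haveI := isQuasicoherent_pmod x H
  haveI := isQuasicoherent_pmod x H'
  haveI := ConormalSection.isQuasicoherent_idealMod I₀
  obtain ⟨ι, hι⟩ := exists_pmod_incl (x := x) (hD.rel_le hgt)
  haveI : (cokernel ι).IsQuasicoherent := QCohLib.isQuasicoherent_cokernel ι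
  let cl := fun W : X.Opens => (cokernel.π ι).app W
  have hcl0 : ∀ (W : X.affineOpens) m, cl W.1 m = 0 ↔ psect x H W.1 m ∈ fam x H' W := by
    intro W m
    constructor
    · intro hm
      obtain ⟨n, rfl⟩ := exists_preimage_of_cokernel_eq_zero ι W hm
      rw [hι]
      exact psect_mem x H' W n
    · intro hm
      obtain ⟨n, hn⟩ := exists_psect_eq x H' W hm
      obtain rfl : ι.app W.1 n = m := psect_injective x H W.1 ((hι W n).trans hn)
      change (cokernel.π ι).app W.1 (ι.app W.1 n) = 0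
      rw [← ConcreteCategory.comp_apply, ← Scheme.Modules.Hom.comp_app, cokernel.condition]
      rfl
  have hcleq : ∀ (W : X.affineOpens) m m', psect x H W.1 m - psect x H W.1 m' ∈ fam x H' W →
      cl W.1 m = cl W.1 m' := fun W m m' hm => by
    rw [← sub_eq_zero, ← map_sub]
    exact (hcl0 W _).2 (by rwa [map_sub])
  -- the inclusion of the quotient
  choose a0 ha0 using fun (W : X.affineOpens) q => qcl_surjective I₀ W q
  choose m0 hm0 using fun (W : X.affineOpens) q => exists_psect_eq x H W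
    (hD.str_mul_mem hgt W (cst x B W.1 (a0 W q)))
  have hwd : ∀ (W : X.affineOpens) (r : Γ(X, W.1)) m, psect x H W.1 m = str x B W.1 t * cst x B W.1 r →
      cl W.1 (m0 W (qcl I₀ W.1 r)) = cl W.1 m := fun W r m hm => hcleq W _ _ (by
    rw [hm0, hm, ← mul_sub, ← map_sub, hD.fam_rel]
    refine Submodule.mem_sup_right (Ideal.mul_mem_mul (Ideal.mem_span_singleton_self _) (Ideal.mem_map_of_mem _ ?_))
    rw [← qcl_eq_zero, map_sub, ha0, sub_self])
  obtain ⟨α, hα⟩ := exists_hom_of_affine (M := ClSub.quotMod I₀) (N := cokernel ι)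
    (fun W => AddMonoidHom.mk' (fun q => cl W.1 (m0 W q)) fun q q' => by
      obtain ⟨r, rfl⟩ := qcl_surjective I₀ W q
      obtain ⟨r', rfl⟩ := qcl_surjective I₀ W q'
      obtain ⟨m, hm⟩ := exists_psect_eq x H W (hD.str_mul_mem hgt W (cst x B W.1 r))
      obtain ⟨m', hm'⟩ := exists_psect_eq x H W (hD.str_mul_mem hgt W (cst x B W.1 r'))
      rw [← map_add (qcl I₀ W.1), hwd W r m hm, hwd W r' m' hm', ← map_add]
      exact hwd W (r + r') _ (by rw [map_add, hm, hm', map_add, mul_add]))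
    (fun W r q => by
      obtain ⟨r', rfl⟩ := qcl_surjective I₀ W q
      obtain ⟨m', hm'⟩ := exists_psect_eq x H W (hD.str_mul_mem hgt W (cst x B W.1 r'))
      change cl W.1 (m0 W (r • qcl I₀ W.1 r')) = r • cl W.1 (m0 W (qcl I₀ W.1 r'))
      rw [← qcl_smul, hwd W r' m' hm', ← Scheme.Modules.Hom.app_smul]
      exact hwd W (r * r') _ (by rw [psect_smul, hm', map_mul]; ring))
    (fun W W' hW q => by
      obtain ⟨r, rfl⟩ := qcl_surjective I₀ W q
      obtain ⟨m, hm⟩ := exists_psect_eq x H W (hD.str_mul_mem hgt W (cst x B W.1 r))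
      change (cokernel ι).presheaf.map _ (cl W.1 (m0 W (qcl I₀ W.1 r))) =
        cl W'.1 (m0 W' ((ClSub.quotMod I₀).presheaf.map _ (qcl I₀ W.1 r)))
      rw [hwd W r m hm, qcl_map, ← QCohLib.app_map]
      exact (hwd W' _ _ (by rw [psect_map, hm, map_mul, rs_str, rs_cst])).symm)
  have hαr : ∀ (W : X.affineOpens) (r : Γ(X, W.1)) m, psect x H W.1 m = str x B W.1 t * cst x B W.1 r →
      α.app W.1 (qcl I₀ W.1 r) = cl W.1 m := fun W r m hm => by
    rw [hα]
    exact hwd W r m hm
  -- the projection to the ideal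
  choose p0 hp0 using fun (W : X.affineOpens) (m : Γ(pmod x H, W.1)) =>
    ConormalSection.exists_idealSect_eq I₀ W _ (hD.red_mem W (psect_mem x H W m))
  obtain ⟨β', hβ'⟩ := exists_hom_of_affine (M := pmod x H) (N := ClSub.idealMod I₀)
    (fun W => AddMonoidHom.mk' (p0 W) fun m m' => ConormalSection.idealSect_injective I₀ W.1 (by
      rw [map_add, hp0, hp0, hp0, map_add, map_add]))
    (fun W r m => ConormalSection.idealSect_injective I₀ W.1 (by
      change OmegaSh.idealSect I₀ W.1 (p0 W (r • m)) = OmegaSh.idealSect I₀ W.1 (r • p0 W m)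
      rw [hp0, ConormalSection.idealSect_smul, hp0, psect_smul, map_mul, red_cst]))
    (fun W W' hW m => ConormalSection.idealSect_injective I₀ W'.1 (by
      change OmegaSh.idealSect I₀ W'.1 ((ClSub.idealMod I₀).presheaf.map _ (p0 W m)) =
        OmegaSh.idealSect I₀ W'.1 (p0 W' _)
      rw [idealSect_map, hp0, hp0, psect_map, red_rs]))
  have hβs : ∀ (W : X.affineOpens) m, OmegaSh.idealSect I₀ W.1 (β'.app W.1 m) = red x B W.1 (psect x H W.1 m) :=
    fun W m => by rw [hβ']; exact hp0 W m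
  have hιβ : ι ≫ β' = 0 := hom_ext_affine fun W n => by
    refine ConormalSection.idealSect_injective I₀ W.1 ?_
    rw [Scheme.Modules.Hom.comp_app, ConcreteCategory.comp_apply, hβs, hι, hD.red_eq_zero hgt W (psect_mem x H' W n)]
    exact (map_zero (OmegaSh.idealSect I₀ W.1)).symm
  let β : cokernel ι ⟶ ClSub.idealMod I₀ := cokernel.desc ι β' hιβ
  have hβ : ∀ (W : X.affineOpens) m, β.app W.1 (cl W.1 m) = β'.app W.1 m := fun W m => by
    change β.app W.1 ((cokernel.π ι).app W.1 m) = _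
    rw [← ConcreteCategory.comp_apply, ← Scheme.Modules.Hom.comp_app, cokernel.π_desc]
  have hclsurj : ∀ (W : X.affineOpens), Function.Surjective (cl W.1) := fun W =>
    QCohLib.app_surjective_of_epi (cokernel.π ι) W.2
  have hαβ : α ≫ β = 0 := hom_ext_affine fun W q => by
    obtain ⟨r, rfl⟩ := qcl_surjective I₀ W q
    obtain ⟨m, hm⟩ := exists_psect_eq x H W (hD.str_mul_mem hgt W (cst x B W.1 r))
    refine ConormalSection.idealSect_injective I₀ W.1 ?_
    rw [Scheme.Modules.Hom.comp_app, ConcreteCategory.comp_apply, hαr W r m hm, hβ, hβs, hm, map_mul, red_str,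
      (Art.res_app g t).symm, hgt, map_zero, map_zero, zero_mul]
    exact (map_zero (OmegaSh.idealSect I₀ W.1)).symm
  haveI : Mono α := mono_of_affine_injective α fun W => by
    rw [injective_iff_map_eq_zero]
    intro q hq
    obtain ⟨r, rfl⟩ := qcl_surjective I₀ W q
    obtain ⟨m, hm⟩ := exists_psect_eq x H W (hD.str_mul_mem hgt W (cst x B W.1 r))
    rw [hαr W r m hm, hcl0, hm] at hq
    exact (qcl_eq_zero I₀ W r).2 (hD.inj hg ht W hq)
  haveI := InvBasic.isQuasicoherent_structureModule I₀.subscheme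
  haveI := QCohLib.isQuasicoherent_pushforward (M := Coh.structureModule I₀.subscheme) I₀.subschemeι
  haveI : (ClSub.quotMod I₀).IsQuasicoherent := by assumption
  let δ : cokernel α ⟶ ClSub.idealMod I₀ := cokernel.desc α β hαβ
  have hδ : ∀ (W : X.affineOpens) e, δ.app W.1 ((cokernel.π α).app W.1 e) = β.app W.1 e := fun W e => by
    rw [← ConcreteCategory.comp_apply, ← Scheme.Modules.Hom.comp_app, cokernel.π_desc]
  haveI : (cokernel α).IsQuasicoherent := QCohLib.isQuasicoherent_cokernel α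
  haveI : Epi δ := QCohLib.epi_of_affine_surjective δ fun W i => by
    have hi := ConormalSection.idealSect_mem I₀ W i
    let := (sHom x W.1).toAlgebra
    obtain ⟨j, hj, hji⟩ := (goodAt_fam x I₀ z W).exists_lift (isDef x A W.1 W.2) hi
    obtain ⟨s, rfl⟩ := surjective_bc x hg.1 W j
    obtain ⟨m, hm⟩ := exists_psect_eq x H W (a := s) (by rw [hD.fam_top]; exact hj)
    refine ⟨(cokernel.π α).app W.1 (cl W.1 m), ConormalSection.idealSect_injective I₀ W.1 ?_⟩
    rw [hδ, hβ, hβs, hm, ← red_bc x g W.1]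
    exact hji
  haveI : Mono δ := mono_of_affine_injective δ fun W => by
    rw [injective_iff_map_eq_zero]
    intro c hc
    obtain ⟨e, rfl⟩ := QCohLib.app_surjective_of_epi (cokernel.π α) W.2 c
    obtain ⟨m, rfl⟩ := hclsurj W e
    rw [hδ, hβ] at hc
    have h0 : red x B W.1 (psect x H W.1 m) = 0 := by
      rw [← hβs, hc]
      exact map_zero (OmegaSh.idealSect I₀ W.1)
    obtain ⟨r, hr⟩ := hD.exact hg ht W (psect_mem x H W m) h0
    obtain ⟨m', hm'⟩ := exists_psect_eq x H W (hD.str_mul_mem hgt W (cst x B W.1 r))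
    have he : cl W.1 m = α.app W.1 (qcl I₀ W.1 r) := by
      rw [hαr W r m' hm']
      exact hcleq W m m' (by rw [hm']; exact hr)
    rw [he, ← ConcreteCategory.comp_apply, ← Scheme.Modules.Hom.comp_app, cokernel.condition]
    rfl
  haveI : IsIso δ := isIso_of_mono_of_epi δ
  haveI : Epi β := by
    rw [show β = cokernel.π α ≫ δ from (cokernel.π_desc _ _ _).symm]
    infer_instance
  have hS : (ShortComplex.mk α β hαβ).ShortExact :=
    { exact := by
        refine ShortComplex.exact_of_g_is_cokernel _ (IsColimit.ofIsoColimit (cokernelIsCokernel α) ?_)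
        exact Cofork.ext (asIso δ) (cokernel.π_desc _ _ _) }
  exact ⟨cokernel ι, α, β, hαβ, cokernel.π ι, inferInstance, hS, hcl0, hαr, hclsurj,
    fun W m => by rw [hβ]; exact hβs W m⟩

/-- A splitting from a retraction. -/
theorem exists_splitting_of_retraction (hD : ObsData x I₀ z g t H H') {E : X.Modules}
    {α : ClSub.quotMod I₀ ⟶ E} {c : pmod x H ⟶ E}
    (h0 : ∀ (W : X.affineOpens) m, c.app W.1 m = 0 ↔ psect x H W.1 m ∈ fam x H' W)
    (hα : ∀ (W : X.affineOpens) (r : Γ(X, W.1)) m, psect x H W.1 m = str x B W.1 t * cst x B W.1 r →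
        α.app W.1 (qcl I₀ W.1 r) = c.app W.1 m)
    {r : E ⟶ ClSub.quotMod I₀} (hr : α ≫ r = 𝟙 _) :
    ∃ φ : pmod x H ⟶ ClSub.quotMod I₀, (∀ (W : X.affineOpens) m, psect x H W.1 m ∈ fam x H' W → φ.app W.1 m = 0) ∧
      ∀ (W : X.affineOpens) (a : Γ(X, W.1)) m, psect x H W.1 m = str x B W.1 t * cst x B W.1 a →
        φ.app W.1 m = qcl I₀ W.1 a := by
  refine ⟨c ≫ r, fun W m hm => ?_, fun W a m hm => ?_⟩
  · rw [Scheme.Modules.Hom.comp_app, ConcreteCategory.comp_apply, (h0 W m).2 hm, map_zero]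
  · rw [Scheme.Modules.Hom.comp_app, ConcreteCategory.comp_apply, ← hα W a m hm,
      ← ConcreteCategory.comp_apply, ← Scheme.Modules.Hom.comp_app, hr]
    rfl

/-- A splitting of the obstruction extension. -/
theorem exists_splitting [HasExt.{w} X.Modules]
    (h : Subsingleton (Abelian.Ext.{w} (ClSub.idealMod I₀) (ClSub.quotMod I₀) 1))
    (hD : ObsData x I₀ z g t H H') (hg : Art.IsSmallExt g) (ht : RingHom.ker g.toAlgHom = Ideal.span {t}) :
    ∃ φ : pmod x H ⟶ ClSub.quotMod I₀, (∀ (W : X.affineOpens) m, psect x H W.1 m ∈ fam x H' W → φ.app W.1 m = 0) ∧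
      ∀ (W : X.affineOpens) (r : Γ(X, W.1)) m, psect x H W.1 m = str x B W.1 t * cst x B W.1 r →
        φ.app W.1 m = qcl I₀ W.1 r := by
  obtain ⟨E, α, β, w, c, -, hS, h0, hα, -, -⟩ := exists_extension x I₀ z hD hg ht
  obtain ⟨r, hr⟩ := exists_retraction α β w hS h
  exact exists_splitting_of_retraction x I₀ z hD h0 hα hr

end Groth.Agent.HilbLoc
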